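import Cfsg.Agent.Cl.OTor

set_option autoImplicit false

/-! Multipliers of orthogonal groups of types `B` and `²D`. -/

namespace Cfsg.Agent.Cl

open Subgroup Module Cfsg.Agent.RG Cfsg.Agent.RGD Cfsg.Agent.Cover Cfsg.Agent.Polar
open Cfsg.Agent.Polar.PQ Cfsg.Agent.Stein

universe u

variable {F : Type u} [Field F] {V : Type u} [AddCommGroup V] [Module F V] {P : PQ (oFP F) V}

variable (P) in
/-- an anisotropic subspace as a norm form -/
structure QE (W : Submodule F V) (K : Type*) [Field K] [Algebra F K] where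
  κ : K →+* K
  N : K →* F
  a : K →ₗ[F] V
  κκ : ∀ u, κ (κ u) = u
  κ_alg : ∀ c, κ (algebraMap F K c) = algebraMap F K c
  N_eq : ∀ u, algebraMap F K (N u) = u * κ u
  range : LinearMap.range a = W
  Q_a : ∀ u, P.Q (a u) = N u

namespace QE

variable {W : Submodule F V} {K : Type*} [Field K] [Algebra F K] (D : QE P W K)

theorem B_a (u v : K) : algebraMap F K (P.B (D.a u) (D.a v)) = u * D.κ v + D.κ u * v := by
  have := congrArg (algebraMap F K) (o_Q_add (P := P) (D.a u) (D.a v))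
  rw [← D.a.map_add] at this
  simp only [D.Q_a, map_add (algebraMap F K), D.N_eq, map_add D.κ] at this
  linear_combination -this

theorem N_ne {t : K} (ht : t ≠ 0) : D.N t ≠ 0 := fun h => by
  have := D.N_eq t
  rw [h, map_zero] at this
  exact mul_ne_zero ht ((map_ne_zero _).2 ht) this.symm

theorem smul_a (c : F) (u : K) : c • D.a u = D.a (algebraMap F K c * u) := by
  rw [← Algebra.smul_def, map_smul]

theorem a_inj : Function.Injective D.a := (injective_iff_map_eq_zero _).2 fun u h => by_contra fun h0 =>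
  D.N_ne h0 (by rw [← D.Q_a, h, o_Q_zero])

theorem refl (x : K) {t : K} (ht : t ≠ 0) :
    D.a x - (P.B (D.a x) (D.a t) / D.N t) • D.a t = D.a (-(D.κ x * t / D.κ t)) := by
  have := (map_ne_zero D.κ).2 ht
  rw [smul_a, ← map_sub, map_div₀, B_a, N_eq]
  congr 1; field_simp; ring

theorem N_ext {u : K} {c : F} (h : algebraMap F K c = u * D.κ u) : D.N u = c :=
  (algebraMap F K).injective (by rw [D.N_eq, h])

/-- the short root system -/
def short : Short P W K where
  a := D.a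
  c := D.N
  a' s := D.a (-D.κ s)
  c' := D.N
  mem u := D.range.le ⟨_, rfl⟩
  mem' u := D.range.le ⟨_, rfl⟩
  val u := o_QEq_iff.2 (D.Q_a u)
  val' u := o_QEq_iff.2 ((D.Q_a _).trans (D.N_ext (by simp [D.N_eq, D.κκ, mul_comm])))
  a_add := D.a.map_add
  c_add u v := D.N_ext (by simp only [map_add, D.N_eq, D.B_a]; ring)
  a'_add u v := by rw [← map_add, map_add D.κ, neg_add]
  c'_add u v := D.N_ext (by simp only [map_add, D.N_eq, D.B_a, map_neg D.κ, D.κκ]; ring)
  c_ne t := D.N_ne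
  inv1 t ht := by
    have := (map_ne_zero D.κ).2 ht
    simp only [smul_a, oFP_eps, one_mul, map_inv₀, N_eq, map_neg D.κ, neg_neg]; congr 1; field_simp
  inv2 t ht := by
    have := (map_ne_zero D.κ).2 ht
    simp only [smul_a, RingHom.id_apply, map_inv₀, N_eq, map_neg D.κ, neg_neg]; congr 1; field_simp
  inv3 t ht := D.N_ext (by simp [D.N_eq, mul_comm])
  conj1 t s ht := by
    have := (map_ne_zero D.κ).2 ht
    rw [D.refl _ ht]
    simp only [smul_a, RingHom.id_apply, map_neg (algebraMap F K), N_eq, map_neg D.κ, D.κκ]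
    congr 1; field_simp
  conj2 t s ht := (D.N_ext (by simp [D.N_eq]; ring)).symm
  surj x hx d hd := by
    obtain ⟨u, rfl⟩ := D.range.ge hx
    exact ⟨u, rfl, (o_QEq_iff.1 hd).symm.trans (D.Q_a u)⟩
  scal μ _ := ⟨algebraMap F K μ, fun u => ⟨D.smul_a _ _,
    (D.N_ext (by simp [D.N_eq, D.κ_alg]; ring)).symm⟩⟩

/-- the multiplier -/
def A (n : ℕ) : Subgroup (Fˣ × Kˣ) where
  carrier := {x | x.1 ^ 2 = 1 ∧ (x.2 : K) = algebraMap F K x.1 * D.κ x.2 ∧ D.N x.2 = x.1 ^ n}
  one_mem' := by simp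
  mul_mem' {x y} hx hy := ⟨by simp [mul_pow, hx.1, hy.1], by
    simp only [Prod.snd_mul, Prod.fst_mul, Units.val_mul, map_mul]
    rw [mul_mul_mul_comm, ← hx.2.1, ← hy.2.1], by simp [mul_pow, hx.2.2, hy.2.2]⟩
  inv_mem' {x} hx := ⟨by simp [hx.1], by
    simp only [Prod.snd_inv, Prod.fst_inv, Units.val_inv_eq_inv_val, map_inv₀]
    rw [← mul_inv, ← hx.2.1], D.N_ext (by
      simp only [Prod.snd_inv, Prod.fst_inv, Units.val_inv_eq_inv_val, map_inv₀, inv_pow, ← hx.2.2,
        D.N_eq, mul_inv])⟩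

omit D in
theorem two_eq : (2 : K) = 0 ↔ (2 : F) = 0 := by
  rw [← map_ofNat (algebraMap F K) 2, map_eq_zero]

theorem mem_A [Fintype F] {n : ℕ} {s : Kˣ} :
    s ∈ (D.A (n + 1)).map (MonoidHom.snd _ _) ↔ s ^ Nat.gcd 4 (Fintype.card F ^ (n + 2) + 1) = 1 := by
  have h4 := Nat.gcd_dvd_left 4 (Fintype.card F ^ (n + 2) + 1)
  have h5 : ∀ c : Fˣ, (s : K) = algebraMap F K c * D.κ s → D.N s = c ^ (n + 1) →
      (s : K) ^ 2 = algebraMap F K c ^ (n + 2) := fun c h1 h2 => by
    have := D.N_eq s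
    rw [h2, map_pow] at this
    linear_combination s * h1 - algebraMap F K c * this
  have h6 : s ^ 2 = 1 → s ∈ (D.A (n + 1)).map (MonoidHom.snd _ _) := fun h => by
    refine ⟨(1, s), ?_, rfl⟩
    rcases sq_eq_one_iff.1 (show (s : K) ^ 2 = 1 from congrArg Units.val h) with e | e <;>
      exact ⟨by simp, by simp [e], D.N_ext (by simp [e])⟩
  by_cases h2 : (2 : F) = 0
  · have h3 : (2 : K) = 0 := two_eq.2 h2
    refine ⟨?_, fun h => h6 ?_⟩
    · rintro ⟨⟨c, s⟩, ⟨h1, h7, h8⟩, rfl⟩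
      obtain rfl := sq_one_of_two h2 h1
      rw [sq_one_of_two h3 (s := (MonoidHom.snd _ _ (1, s))) (Units.ext (by simpa using h5 1 h7 h8)),
        one_pow]
    · rw [sq_one_of_two h3 (s := s ^ 2) (by
        rw [← pow_mul]; exact orderOf_dvd_iff_pow_eq_one.1 ((orderOf_dvd_of_pow_eq_one h).trans h4))]
  have h3 : (2 : K) ≠ 0 := fun e => h2 (two_eq.1 e)
  have h7 : Fintype.card F % 2 = 1 := FiniteField.odd_card_of_char_ne_two fun e => h2 (by
    simpa [e] using (ringChar.spec F 2).2 (by simp [e]))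
  have h8 := FiniteField.isSquare_neg_one_iff (F := F)
  have h9 : 4 ∣ Fintype.card F ^ (n + 2) + 1 ↔ Odd n ∧ Fintype.card F % 4 = 3 := by
    rw [Nat.dvd_iff_mod_eq_zero, Nat.add_mod, Nat.pow_mod]
    obtain ⟨k, rfl | rfl⟩ := Nat.even_or_odd' n <;> rcases Nat.odd_mod_four_iff.1 h7 with e | e <;>
      simp [e, pow_add, pow_mul, Nat.mul_mod, Nat.pow_mod]
  have h10 : 2 ∣ Nat.gcd 4 (Fintype.card F ^ (n + 2) + 1) :=
    Nat.dvd_gcd (by decide) (Nat.dvd_of_mod_eq_zero (by simp [Nat.add_mod, Nat.pow_mod, h7]))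
  have h11 : s ^ 2 = 1 → s ^ Nat.gcd 4 (Fintype.card F ^ (n + 2) + 1) = 1 := fun h =>
    orderOf_dvd_iff_pow_eq_one.1 ((orderOf_dvd_of_pow_eq_one h).trans h10)
  refine ⟨?_, fun h => ?_⟩
  · rintro ⟨⟨c, s⟩, ⟨h1, k1, k2⟩, rfl⟩
    have k3 := h5 c k1 k2
    rcases sq_eq_one_iff.1 (show (c : F) ^ 2 = 1 from congrArg Units.val h1) with e | e
    · exact h11 (Units.ext (by simpa [e] using k3))
    rcases n.even_or_odd with hn | hn
    · exact h11 (Units.ext (by simpa [e, pow_add, hn.neg_one_pow] using k3))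
    simp only [e, map_neg, map_one, pow_add, hn.neg_one_pow, even_two, Even.neg_pow, one_pow, mul_one,
      MonoidHom.coe_snd] at k1 k3
    rw [Nat.gcd_eq_left (h9.2 ⟨hn, by_contra fun k => ?_⟩)]
    · exact Units.ext (by simp; linear_combination (s ^ 2 - 1 : K) * k3)
    obtain ⟨r, hr⟩ := h8.2 k
    replace hr := congrArg (algebraMap F K) hr
    rw [map_neg, map_one, map_mul, ← k3, sq] at hr
    refine mul_ne_zero h3 s.ne_zero ?_
    rcases mul_self_eq_mul_self_iff.1 hr with e | e <;> rw [e] at k1 ⊢ <;>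
      simp only [map_neg, D.κ_alg] at k1 <;> linear_combination k1
  by_cases k : s ^ 2 = 1
  · exact h6 k
  obtain ⟨hn, k1⟩ : Odd n ∧ Fintype.card F % 4 = 3 := (by_contra fun k1 => k (orderOf_dvd_iff_pow_eq_one.1
    ((orderOf_dvd_of_pow_eq_one h).trans (by
      obtain ⟨i, hi, e⟩ := (Nat.dvd_prime_pow Nat.prime_two).1 (show _ ∣ 2 ^ 2 from h4)
      have := e ▸ Nat.gcd_dvd_right 4 (Fintype.card F ^ (n + 2) + 1)
      rw [e]; interval_cases i
      exacts [one_dvd _, dvd_rfl, absurd (h9.1 this) k1]))))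
  have k2 : (s : K) ^ 2 = -1 := (sq_eq_one_iff.1 (by
    rw [← pow_mul]; exact congrArg Units.val (orderOf_dvd_iff_pow_eq_one.1
      ((orderOf_dvd_of_pow_eq_one h).trans h4)))).resolve_left fun e => k (Units.ext e)
  have k3 : D.κ s * D.κ s = s * s := by rw [← map_mul, ← sq, k2]; simp
  rcases mul_self_eq_mul_self_iff.1 k3 with e | e
  · refine absurd k1 (h8.1 ⟨P.B (D.a s) (D.a 1) / 2, (algebraMap F K).injective ?_⟩)
    simp only [map_mul, map_div₀, D.B_a, e, map_neg, map_one, map_ofNat]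
    field_simp; linear_combination -4 * k2
  · exact ⟨(-1, s), ⟨by simp, by simp [e], D.N_ext (by
      simp [e, pow_succ, hn.neg_one_pow]; linear_combination k2)⟩, rfl⟩

/-- the multiplier as a group of roots of unity -/
noncomputable def equiv [Fintype F] (n : ℕ) :
    D.A (n + 1) ≃* rootsOfUnity (Nat.gcd 4 (Fintype.card F ^ (n + 2) + 1)) K :=
  (MonoidHom.ofInjective (f := (MonoidHom.snd _ _).comp (D.A (n + 1)).subtype)
    ((injective_iff_map_eq_one _).2 fun ⟨⟨c, s⟩, h⟩ e => by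
      obtain rfl : s = 1 := e
      exact Subtype.ext (Prod.ext (Units.ext ((algebraMap F K).injective (by
        simpa using h.2.1.symm))) rfl))).trans (MulEquiv.subgroupCongr (by
    ext s
    rw [mem_rootsOfUnity, ← D.mem_A, MonoidHom.range_comp, range_subtype]))

end QE

/-- the torus element of a central element -/
def tS (m : ℕ) (K : Type*) [Field K] : Fˣ × Kˣ →* (Fin m → Fˣ) × Kˣ :=
  MonoidHom.mk' (fun x => (fun j => x.1 ^ ((j : ℕ) + 1), x.2))
    fun x y => Prod.ext (funext fun j => by simp [mul_pow]) rfl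

theorem tx_tS {m : ℕ} {K : Type*} [Field K] (x : Fˣ × Kˣ) : ∀ k ≤ m, Frame.tx (tS m K x).1 k =
    (x.1 : F) ^ k
  | 0, _ => by simp [Frame.tx]
  | k + 1, h => by simp [Frame.tx, tS, Nat.lt_of_succ_le h]

variable [Fintype F] [FiniteDimensional F V] (hP : P.ND)
include hP

theorem o_mult_S {m : ℕ} (Φ : Frame P m true) {K : Type*} [Field K] [Fintype K] [Algebra F K]
    (D : QE P Φ.V0 K) (hl : Lifts.{u} P) (h7 : 7 ≤ finrank F V) (hm : 1 ≤ m) :
    HasCyclicSchurMultiplier (P.EG ⧸ center P.EG)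
      (Nat.gcd (Nat.gcd 4 (Fintype.card F ^ (m + 2) + 1)) (Fintype.card K - 1)) := by
  haveI := Module.finite_of_finite F (M := V)
  refine mult_of_equiv_right ((D.equiv m).trans (rootsEquiv K _)) ?_
  have k1 : D.N (-1) = 1 := D.N_ext (by simp)
  have k2 : ∀ {S : Type u} [Group S] (σ : USys P S) x u, σ.θ (Φ.ψS σ D.short x) • D.a u =
      D.a (u * x.2 / D.κ x.2) := fun σ x u => by
    rw [Φ.ψS_V0 σ _ _ (D.range.le ⟨_, rfl⟩)]
    simp only [QE.short, D.refl _ (neg_ne_zero.2 one_ne_zero), D.refl _ x.2.ne_zero]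
    simp [D.κκ, neg_div, div_neg]
  have k3 : ∀ {S : Type u} [Group S] (σ : USys P S) x, σ.θ (Φ.ψS σ D.short x) • Φ.v (Frame.lst m) =
      (D.N x.2 / Frame.tx x.1 m) • Φ.v (Frame.lst m) := fun σ x => by
    rw [Φ.ψS_lst]; simp [QE.short, k1]
  refine Φ.mult_of hP (hP.rich (by omega)) hl ⟨(1, -1), by simp [QE.A, k1]⟩ (fun S _ σ =>
    ⟨((Φ.ψS σ D.short).comp (tS m K)).comp (D.A (m + 1)).subtype, fun k hk ⟨c, hc⟩ => ?_, fun x => ?_,
      fun x hx => ?_⟩) fun hp => ?_
  · obtain ⟨⟨t, s⟩, rfl⟩ := Φ.ψS_surj σ D.short hk (Φ.mono_of fun a => ⟨c, hc _⟩)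
    have h2 : c * c = 1 := Φ.sc_norm hc
    have h4 := tx_eq_pow (t := t) (c := c) (n := m) fun j hj =>
      Φ.eq_of_v ((Φ.ψS_v σ _ (t, s) (a := ⟨j, by omega⟩) hj).symm.trans (hc _))
    have h5 := Φ.eq_of_v ((k3 σ (t, s)).symm.trans (hc _))
    have h6 := D.a_inj ((k2 σ (t, s) 1).symm.trans ((hc _).trans (D.smul_a _ _)))
    have h8 := left_ne_zero_of_mul_eq_one h2
    have h9 := (map_ne_zero D.κ).2 s.ne_zero
    simp only [h4 m le_rfl] at h5 h6
    field_simp at h5 h6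
    refine ⟨⟨(Units.mk0 c h8, s), Units.ext (by simp [sq, h2]), h6.trans (mul_comm _ _),
      by simp [h5, pow_succ, mul_comm]⟩,
      congrArg (Φ.ψS σ _) (Prod.ext (tx_ext fun k hk => ?_) rfl)⟩
    rw [tx_tS _ _ hk]; exact (h4 k hk).symm
  · obtain ⟨⟨c, s⟩, h2, h3, h4⟩ := x
    replace h2 : (c : F) * c = 1 := by rw [← sq]; exact congrArg Units.val h2
    refine Φ.isSc_of (Φ.ψS_Dg σ _ _) h2 (fun a ha => ?_) fun y hy => ?_
    · rcases ha.lt_or_eq with ha | ha
      · refine (Φ.ψS_v σ _ _ ha).trans ?_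
        rw [tx_tS _ _ ha, tx_tS _ _ ha.le]
        simp [pow_succ]
      · obtain rfl : a = Frame.lst m := Fin.ext (ha.trans Frame.lst_val.symm)
        refine (k3 σ _).trans ?_
        rw [tx_tS _ _ le_rfl]
        simp only at h4
        simp [tS, h4, pow_succ]
    · obtain ⟨u, rfl⟩ := D.range.ge hy
      refine (k2 σ _ _).trans ?_
      have := (map_ne_zero D.κ).2 s.ne_zero
      rw [D.smul_a]; congr 1
      simp only at h3
      simp only [tS, MonoidHom.mk'_apply, coe_subtype]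
      field_simp; linear_combination u * h3
  · obtain ⟨⟨c, s⟩, h2, h3, h4⟩ := x
    have := Φ.ψS_v σ D.short (tS m K (c, s)) (a := ⟨0, by omega⟩) hm
    rw [show σ.θ (Φ.ψS σ D.short (tS m K (c, s))) = 1 from hx, one_smul, tx_tS _ _ hm,
      tx_tS _ _ (by simp)] at this
    obtain rfl : c = 1 := Units.ext (by simpa using (Φ.eq_of_v ((one_smul F _).trans this)).symm)
    have h5 := D.N_eq s
    simp only [Units.val_one, map_one, one_mul, one_pow] at h3 h4
    rw [h4, ← h3, map_one] at h5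
    rcases mul_self_eq_one_iff.1 h5.symm with e | e
    · exact Or.inl (Subtype.ext (Prod.ext rfl (Units.ext e)))
    · exact Or.inr (Subtype.ext (Prod.ext rfl (Units.ext e)))
  · by_cases h2 : (2 : F) = 0
    · refine Or.inl ⟨fun x y => ?_⟩
      have : ∀ x : D.A (m + 1), x = 1 := fun ⟨⟨c, s⟩, h3, h4, h5⟩ => by
        obtain rfl := sq_one_of_two h2 h3
        have h6 := D.N_eq s
        simp only [Units.val_one, map_one, one_mul, one_pow] at h4 h5
        rw [h5, ← h4, map_one, ← sq] at h6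
        obtain rfl := sq_one_of_two (QE.two_eq.2 h2) (Units.ext h6.symm)
        rfl
      rw [this x, this y]
    · exact Or.inr (exists_spin hP h2 h7 hp)

end Cfsg.Agent.Cl
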