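import Cfsg.Agent.Cl.OShort
import Cfsg.Agent.Polar.Std
import Cfsg.Agent.Forms.StdQuad
import Cfsg.Agent.Polar.U4Loc

set_option autoImplicit false

/-! Multipliers of the standard orthogonal groups. -/

namespace Cfsg.Agent.Cl

open Subgroup Module Cfsg.Agent.Cover Cfsg.Agent.Polar Cfsg.Agent.Polar.PQ Cfsg.Agent.Forms

universe u

variable (F : Type u) [Field F]

/-- the standard system of the plus type form -/
def hsP (l : ℕ) : HS (ofQuad (QPlus l F)) l where
  e i := Pi.single (.inl i) 1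
  f i := Pi.single (.inr i) 1
  hyp i := ⟨o_sing_iff.2 (by simp [ofQuad, QPlus_apply]), o_sing_iff.2 (by simp [ofQuad, QPlus_apply]),
    (pol_QPlus _ _ _).trans (by simp [Pi.single_apply])⟩
  ee i j := (pol_QPlus _ _ _).trans (by simp)
  ff i j := (pol_QPlus _ _ _).trans (by simp)
  ef i j h := (pol_QPlus _ _ _).trans (by simp [Pi.single_apply, h.symm])

/-- the standard system of the odd form -/
def hsO (l : ℕ) : HS (ofQuad (QOdd l F)) l where
  e i := Pi.single (.inr (.inl i)) 1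
  f i := Pi.single (.inr (.inr i)) 1
  hyp i := ⟨o_sing_iff.2 (by simp [ofQuad, QOdd_apply, Pi.single_apply]),
    o_sing_iff.2 (by simp [ofQuad, QOdd_apply, Pi.single_apply]),
    (pol_QOdd _ _ _).trans (by simp [Pi.single_apply])⟩
  ee i j := (pol_QOdd _ _ _).trans (by simp [Pi.single_apply])
  ff i j := (pol_QOdd _ _ _).trans (by simp [Pi.single_apply])
  ef i j h := (pol_QOdd _ _ _).trans (by simp [Pi.single_apply, h.symm])

/-- the standard system of the minus type form -/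
def hsM (l : ℕ) (a b : F) : HS (ofQuad (QMinus l F a b)) l where
  e i := Pi.single (.inl (.inl i)) 1
  f i := Pi.single (.inl (.inr i)) 1
  hyp i := ⟨o_sing_iff.2 (by simp [ofQuad, QMinus_apply, Pi.single_apply]),
    o_sing_iff.2 (by simp [ofQuad, QMinus_apply, Pi.single_apply]),
    (pol_QMinus _ _ _ _ _).trans (by simp [Pi.single_apply])⟩
  ee i j := (pol_QMinus _ _ _ _ _).trans (by simp [Pi.single_apply])
  ff i j := (pol_QMinus _ _ _ _ _).trans (by simp [Pi.single_apply])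
  ef i j h := (pol_QMinus _ _ _ _ _).trans (by simp [Pi.single_apply, h.symm])

variable {F}

theorem mem_hsP {l : ℕ} {x} : x ∈ (hsP F l).W ↔ x = 0 := by
  simp only [HS.mem_W, ofQuad, hsP, pol_QPlus, funext_iff, Sum.forall]
  simp [Pi.single_apply, and_comm]

theorem mem_hsO {l : ℕ} {x} : x ∈ (hsO F l).W ↔ ∀ i, x (.inr i) = 0 := by
  simp only [HS.mem_W, ofQuad, hsO, pol_QOdd, Sum.forall]
  simp [Pi.single_apply, and_comm]

theorem mem_hsM {l : ℕ} {a b : F} {x} : x ∈ (hsM F l a b).W ↔ ∀ i, x (.inl i) = 0 := by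
  simp only [HS.mem_W, ofQuad, hsM, pol_QMinus, Sum.forall]
  simp [Pi.single_apply, and_comm]

/-- the norm form in odd dimension -/
def qeO (l : ℕ) : QE (ofQuad (QOdd l F)) (hsO F l).W F where
  κ := RingHom.id F
  N := powMonoidHom 2
  a := LinearMap.single F (fun _ => F) (.inl ())
  κκ _ := rfl
  κ_alg _ := rfl
  N_eq u := sq u
  range := by
    ext x
    rw [mem_hsO]
    exact ⟨by rintro ⟨u, rfl⟩; simp, fun h => ⟨x (.inl ()), funext (by simp [h])⟩⟩
  Q_a u := by simp [ofQuad, QOdd_apply]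

open QuadraticAlgebra in
/-- the norm form of the minus type -/
def qeM (l : ℕ) (a b : F) [Fact (∀ r : F, r ^ 2 ≠ -b + a * r)] :
    QE (ofQuad (QMinus l F a b)) (hsM F l a b).W (QuadraticAlgebra F (-b) a) where
  κ := starRingEnd _
  N := norm
  a := (LinearMap.single F _ (.inr 0)).comp (reₗ _ _) + (LinearMap.single F _ (.inr 1)).comp (imₗ _ _)
  κκ := star_star
  κ_alg c := by ext <;> simp [starRingEnd_apply]
  N_eq := algebraMap_norm_eq_mul_star
  range := by
    ext x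
    rw [mem_hsM]
    exact ⟨by rintro ⟨u, rfl⟩; simp, fun h => ⟨⟨x (.inr 0), x (.inr 1)⟩, funext (by simp [h])⟩⟩
  Q_a u := by simp [ofQuad, QMinus_apply, norm_def]; ring

theorem QE.exists_frame {V : Type u} [AddCommGroup V] [Module F V] {P : PQ (oFP F) V} {m : ℕ}
    {H : HS P (m + 1)} {K : Type*} [Field K] [Algebra F K] (D : QE P H.W K) :
    ∃ Φ : Frame P m true, Nonempty (QE P Φ.V0 K) := by
  refine ⟨H.frame (fun x hx hs => ?_) (iff_of_true rfl ⟨_, D.range.le ⟨1, rfl⟩, _,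
    D.N_ne one_ne_zero, o_QEq_iff.2 (D.Q_a 1)⟩), ⟨H.perp_v ▸ D⟩⟩
  obtain ⟨u, rfl⟩ := D.range.ge hx
  by_contra h
  exact D.N_ne (by rintro rfl; simp at h) ((D.Q_a u).symm.trans (o_sing_iff.1 hs))

variable [Fintype F]

theorem plus_mult {l : ℕ} (hl : 4 ≤ l) (h : ¬(l = 4 ∧ Fintype.card F = 2)) :
    HasSchurMultiplier (POmega F (quadFormPlus l F)) (AD F l) := by
  obtain ⟨m, rfl⟩ : ∃ m, l = m + 1 := ⟨l - 1, by omega⟩
  have h1 := ofQuad_nd (QPlus_nondegenerate (F := F) (m + 1))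
  refine mult_quot_congr (omegaEquiv (QPlus_nondegenerate _) (by simp; omega)) (o_mult_D h1
    ((hsP F _).frame (fun x hx _ => mem_hsP.1 hx) (iff_of_false (by simp) ?_))
    (o_lifts h1 ?_ ?_ ?_) ?_) <;> try (simp; omega)
  rintro ⟨x, hx, c, hc, h2⟩
  rw [mem_hsP.1 hx, o_QEq_iff, o_Q_zero] at h2
  exact hc h2.symm

theorem odd_mult {l : ℕ} (hl : 3 ≤ l) (hq : Odd (Fintype.card F)) (h : ¬(l = 3 ∧ Fintype.card F = 3)) :
    HasCyclicSchurMultiplier (POmega F (quadFormOdd l F)) 2 := by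
  obtain ⟨m, rfl⟩ : ∃ m, l = m + 1 := ⟨l - 1, by omega⟩
  have h0 := Fintype.one_lt_card (α := F)
  have h2 : (2 : F) ≠ 0 := Ring.two_ne_zero fun e => by
    have := FiniteField.even_card_of_char_two e; grind
  have h1 := ofQuad_nd (QOdd_nondegenerate (F := F) (m + 1) h2)
  obtain ⟨Φ, ⟨D⟩⟩ := (qeO (F := F) (m + 1)).exists_frame
  have := o_mult_S h1 Φ D (o_lifts h1 (by simp; omega) (by simp; grind) (by simp; omega))
    (by simp; omega) (by omega)
  rw [show Nat.gcd _ _ = 2 from ?_] at this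
  · exact mult_quot_congr (omegaEquiv (QOdd_nondegenerate _ h2) (by simp; omega)) this
  generalize Fintype.card F = q at *
  refine Nat.dvd_antisymm ?_ (Nat.dvd_gcd (Nat.dvd_gcd (by decide) (hq.pow.add_one.two_dvd)) (by grind))
  have h3 := (Nat.gcd_dvd_right (Nat.gcd 4 (q ^ (m + 2) + 1)) _).trans (Nat.sub_one_dvd_pow_sub_one q (m + 2))
  have h4 := (Nat.gcd_dvd_left _ (q - 1)).trans (Nat.gcd_dvd_right 4 (q ^ (m + 2) + 1))
  have := Nat.dvd_sub h4 h3
  have h5 := Nat.one_le_pow (m + 2) q (by omega)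
  rwa [show q ^ (m + 2) + 1 - (q ^ (m + 2) - 1) = 2 by omega] at this

theorem minus_mult {l : ℕ} (hl : 4 ≤ l) {a b : F}
    (hab : ∀ z₁ z₂ : F, z₁ ^ 2 + a * z₁ * z₂ + b * z₂ ^ 2 = 0 → z₁ = 0 ∧ z₂ = 0) :
    HasCyclicSchurMultiplier (POmega F (quadFormMinus (l - 1) F a b))
      (Nat.gcd 4 (Fintype.card F ^ l + 1)) := by
  obtain ⟨m, rfl⟩ : ∃ m, l = m + 2 := ⟨l - 2, by omega⟩
  haveI : Fact (∀ r : F, r ^ 2 ≠ -b + a * r) := ⟨fun r h => by
    simpa using (hab r (-1) (by linear_combination h)).2⟩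
  haveI := Module.finite_of_finite F (M := QuadraticAlgebra F (-b) a)
  haveI := Fintype.ofFinite (QuadraticAlgebra F (-b) a)
  have h1 := ofQuad_nd (QMinus_nondegenerate (m + 1) hab)
  obtain ⟨Φ, ⟨D⟩⟩ := (qeM (m + 1) a b).exists_frame
  have := o_mult_S h1 Φ D (o_lifts h1 (by simp; omega) (by simp; omega) fun h8 _ e e' w w' v v' k x hx hs =>
    by_contra fun h0 => ?_) (by simp; omega) (by omega)
  · rw [Module.card_eq_pow_finrank (K := F) (V := QuadraticAlgebra F (-b) a),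
      QuadraticAlgebra.finrank_eq_two, Nat.gcd_eq_left] at this
    · exact mult_quot_congr (omegaEquiv (QMinus_nondegenerate _ hab) (by simp; omega)) this
    generalize Fintype.card F = q
    rcases q.even_or_odd with h | ⟨r, rfl⟩
    · rw [Nat.Coprime.gcd_eq_one ((Nat.coprime_two_left.2 ((Nat.even_pow.2 ⟨h, by omega⟩).add_one)).pow_left 2)]
      exact one_dvd _
    · exact (Nat.gcd_dvd_left _ _).trans ⟨r ^ 2 + r, Nat.sub_eq_of_eq_add (by ring)⟩
  obtain ⟨y, hy, k'⟩ := (k.nds h1).exists_hyp hx h0 hs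
  obtain ⟨⟨h2, h3⟩, h4⟩ := hx
  obtain ⟨⟨h5, h6⟩, h7⟩ := hy
  rw [SetLike.mem_coe, mem_perp_pair] at h2 h3 h4 h5 h6 h7
  have li : LinearIndependent F ![e, w, v, x] := by
    rw [Fintype.linearIndependent_iff]
    intro g hg i
    have := congrArg ((ofQuad (QMinus (m + 1) F a b)).B · (![e', w', v', y] i)) hg
    fin_cases i <;> simpa [Fin.sum_univ_four, k.ew.h1.pair, k.ew.h2.pair, k.ev.h2.pair, k'.pair,
      k.ew.we', k.ev.we', k.wv.we', h2.2, h3.2, h4.2, B_swap_zero k.ew.w'e, B_swap_zero k.ev.w'e, B_swap_zero k.wv.w'e,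
      B_swap_zero h5.1, B_swap_zero h6.1, B_swap_zero h7.1] using this
  have := finrank_le_of_singular_QMinus (m + 1) hab (M := Submodule.span F (Set.range ![e, w, v, x]))
    fun z hz => o_sing_iff.1 ((totSing_span (P := ofQuad (QMinus (m + 1) F a b)) (by
      simp [k.ew.h1.left, k.ew.h2.left, k.ev.h2.left, hs]) (by
      simp [k.ew.h1.left.B_self, k.ew.h2.left.B_self, k.ev.h2.left.B_self, hs.B_self, k.ew.we, k.ev.we,
        k.wv.we, h2.1, h3.1, h4.1, B_swap_zero k.ew.we, B_swap_zero k.ev.we, B_swap_zero k.wv.we, B_swap_zero h2.1, B_swap_zero h3.1,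
        B_swap_zero h4.1])).sing z hz)
  rw [finrank_span_eq_card li] at this
  simp at this h8; omega

end Cfsg.Agent.Cl
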