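import Cfsg.Agent.Cl.Spin

set_option autoImplicit false

/-! The lifted tori of orthogonal groups. -/

namespace Cfsg.Agent.Cl

open Subgroup Module Cfsg.Agent.RG Cfsg.Agent.RGD Cfsg.Agent.Cover Cfsg.Agent.Polar
open Cfsg.Agent.Polar.PQ Cfsg.Agent.Stein

universe u

section general

variable {F : Type*} [Field F] {τ : F →+* F} {π : FP F τ}
variable {V : Type*} [AddCommGroup V] [Module F V] {P : PQ π V} {S : Type*} [Group S] (σ : USys P S)

namespace Frame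

omit σ in
theorem isSc_of {m : ℕ} {sh : Bool} (Φ : Frame P m sh) {g : P.Iso} (hg : g ∈ Φ.Dg) {c : F}
    (hc : c * τ c = 1) (h1 : ∀ a : Ix m, (a : ℕ) ≤ m → g • Φ.v a = c • Φ.v a)
    (h2 : ∀ x ∈ Φ.V0, g • x = c • x) : IsSc g := by
  refine ⟨c, fun x => congrArg (· • x) (Φ.iso_ext (g' := P.scal c hc) (fun a => ?_) h2)⟩
  by_cases ha : (a : ℕ) ≤ m
  · exact h1 a ha
  obtain ⟨t, -, ht⟩ := hg a
  have h3 : (a.rev : ℕ) ≤ m := by rw [Fin.val_rev]; omega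
  have := B_smul_smul g (Φ.v a.rev) (Φ.v a)
  have h4 := Φ.pair _ h3
  rw [Fin.rev_rev] at h4
  rw [h1 _ h3, ht, B_smul_left, B_smul_right, id, h4, mul_one, ← hc,
    mul_right_inj' (left_ne_zero_of_mul_eq_one hc)] at this
  rw [ht, τ.injective this]; rfl

omit σ in
theorem sc_norm {m : ℕ} {sh : Bool} (Φ : Frame P m sh) {g : P.Iso} {c : F} (h : ∀ x : V, g • x = c • x) :
    c * τ c = 1 := (Φ.hyp 0).smul_right_eq (h _) (h _)

omit σ in
theorem eq_of_v {m : ℕ} {sh : Bool} (Φ : Frame P m sh) {a : Ix m} {s t : F}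
    (h : s • Φ.v a = t • Φ.v a) : s = t := smul_left_injective F (Φ.hyp a).left_ne_zero h

variable [Finite F] {m : ℕ}

section short

variable (Φ : Frame P m true) {K : Type*} [Field K] [Finite K] (D : Short P Φ.V0 K)

/-- the torus in the presence of short roots -/
noncomputable def ψS : (Fin m → Fˣ) × Kˣ →* S :=
  (Φ.tL σ).noncommCoprod (Φ.SS σ D).hH fun t s =>
    Φ.commute_SS σ D (Φ.tL_prop σ t).1 (Φ.tL_prop σ t).2.1 s.ne_zero

theorem ψS_apply (x : (Fin m → Fˣ) × Kˣ) : Φ.ψS σ D x = Φ.tL σ x.1 * (Φ.SS σ D).h x.2 := rfl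

theorem ψS_surj {k : S} (hk : k ∈ US (Φ.X σ) Set.univ) (hd : σ.θ k ∈ Φ.Dg) : ∃ x, Φ.ψS σ D x = k := by
  obtain ⟨t, η, h1, rfl⟩ := Φ.diag_decomp σ (hmT m) hk hd
  rw [(Φ.sl2At_short σ D).Hi_eq (Φ.isRGD σ _)] at h1
  obtain ⟨s, rfl⟩ := h1
  exact ⟨(t, s), rfl⟩

theorem ψS_Dg (x : (Fin m → Fˣ) × Kˣ) : σ.θ (Φ.ψS σ D x) ∈ Φ.Dg := by
  rw [ψS_apply, map_mul]
  exact mul_mem (Φ.tL_prop σ _).1
    (Φ.H0_le_Dg σ _ (RC.Hi_le_H0 _ ((Φ.sl2At_short σ D).h_mem x.2.ne_zero)))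

theorem ψS_v (x : (Fin m → Fˣ) × Kˣ) {a : Ix m} (ha : (a : ℕ) < m) :
    σ.θ (Φ.ψS σ D x) • Φ.v a = τ (tx x.1 (a + 1) / tx x.1 a) • Φ.v a := by
  rw [ψS_apply, map_mul, mul_smul, Φ.Hi_last_fix σ ((Φ.sl2At_short σ D).h_mem x.2.ne_zero) ha,
    (Φ.tL_prop σ _).2.2 _ ha.le]

theorem ψS_lst (x : (Fin m → Fˣ) × Kˣ) : σ.θ (Φ.ψS σ D x) • Φ.v (lst m) =
    (π.ε * D.c x.2 / τ (D.c (-1)) / τ (tx x.1 m)) • Φ.v (lst m) := by
  rw [ψS_apply, map_mul, mul_smul, D.h_e σ _ _ x.2.ne_zero, act_smul,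
    (Φ.tL_prop σ _).2.2 _ (lst_val).le, smul_smul, lst_val]
  simp [tx, div_eq_mul_inv]

theorem ψS_V0 (x : (Fin m → Fˣ) × Kˣ) {y : V} (hy : y ∈ Φ.V0) : σ.θ (Φ.ψS σ D x) • y =
    (fun z => z - (P.B z (D.a x.2) / D.c x.2) • D.a x.2)
      (y - (P.B y (D.a (-1)) / D.c (-1)) • D.a (-1)) := by
  have h1 := fun t (ht : t ≠ 0) => (ws_act (Φ.hyp (lst m)) (Φ.V0_le _ (D.mem t)) (D.val t) (D.c_ne t ht)).2.2
  have h2 := fun {z} (hz : z ∈ Φ.V0) (c : F) t => sub_mem hz (Submodule.smul_mem _ c (D.mem t))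
  rw [ψS_apply, map_mul, mul_smul, D.θ_h σ _ _ x.2.ne_zero, mul_smul,
    h1 _ (neg_ne_zero.2 one_ne_zero) _ (Φ.V0_le _ hy), h1 _ x.2.ne_zero _ (Φ.V0_le _ (h2 hy _ _)),
    (Φ.tL_prop σ _).2.1 _ (h2 (h2 hy _ _) _ _)]

end short

section long

variable (Φ : Frame P m false) (hm : 1 ≤ m)
include hm

omit [Finite F] σ Φ in
theorem sa_ne_last : sa false (Fin.last m) ≠ sb (Fin.last m) := by
  simp only [Ne, Fin.ext_iff, sa_val, sb_val]; simp; omega

/-- the torus in type `D` -/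
noncomputable def ψD : (Fin m → Fˣ) × Fˣ →* S :=
  (Φ.tL σ).noncommCoprod (Φ.LS σ (sa_ne_last hm)).hH fun t s =>
    Φ.commute_LS σ _ (Φ.tL_prop σ t).1 s.ne_zero

theorem ψD_apply (x : (Fin m → Fˣ) × Fˣ) :
    Φ.ψD σ hm x = Φ.tL σ x.1 * (Φ.LS σ (sa_ne_last hm)).h x.2 := rfl

theorem ψD_surj {k : S} (hk : k ∈ US (Φ.X σ) Set.univ) (hd : σ.θ k ∈ Φ.Dg) : ∃ x, Φ.ψD σ hm x = k := by
  obtain ⟨t, η, h1, rfl⟩ := Φ.diag_decomp σ (fun _ => hm) hk hd
  rw [(Φ.sl2At σ _ (sa_ne_last hm)).Hi_eq (Φ.isRGD σ _)] at h1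
  obtain ⟨s, rfl⟩ := h1
  exact ⟨(t, s), rfl⟩

theorem ψD_Dg (x : (Fin m → Fˣ) × Fˣ) : σ.θ (Φ.ψD σ hm x) ∈ Φ.Dg := by
  rw [ψD_apply, map_mul]; exact mul_mem (Φ.tL_prop σ _).1 (Φ.LS_Dg σ _ x.2.ne_zero)

theorem ψD_v (x : (Fin m → Fˣ) × Fˣ) {a : Ix m} (ha : (a : ℕ) ≤ m) :
    σ.θ (Φ.ψD σ hm x) • Φ.v a = ((if (a : ℕ) + 1 = m then τ x.2 else if (a : ℕ) = m then (x.2 : F)
      else 1) * τ (tx x.1 (a + 1) / tx x.1 a)) • Φ.v a := by
  rw [ψD_apply, map_mul, mul_smul, σ.θ_longSys_h, Φ.hl_v (sb_ne _) (sa_ne_last hm) x.2.ne_zero,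
    act_smul, (Φ.tL_prop σ _).2.2 _ ha, smul_smul]
  congr 2
  simp only [Fin.ext_iff, Fin.val_rev, sa_val, sb_val, Fin.val_last, lt_irrefl, false_or, if_false,
    Bool.false_eq_true]
  split_ifs <;> first | omega | rfl

end long

end Frame

end general

variable {F : Type u} [Field F] {V : Type u} [AddCommGroup V] [Module F V] {P : PQ (oFP F) V}

theorem sq_one_of_two {K : Type*} [Field K] (h : (2 : K) = 0) {s : Kˣ} (hs : s ^ 2 = 1) : s = 1 := by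
  rcases sq_eq_one_iff.1 (show (s : K) ^ 2 = 1 from congrArg Units.val hs) with e | e
  · exact Units.ext e
  · exact Units.ext (by rw [e, Units.val_one]; linear_combination -h)

variable (F) in
/-- the multiplier in type `D` -/
def AD (n : ℕ) : Subgroup (Fˣ × Fˣ) where
  carrier := {x | x.1 ^ 2 = 1 ∧ x.2 ^ 2 = x.1 ^ n}
  one_mem' := by simp
  mul_mem' ha hb := ⟨by simp [mul_pow, ha.1, hb.1], by simp [mul_pow, ha.2, hb.2]⟩
  inv_mem' ha := ⟨by simp [ha.1], by simp [ha.2]⟩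

/-- the torus element of a central element -/
def tD (m : ℕ) : Fˣ × Fˣ →* (Fin m → Fˣ) × Fˣ :=
  MonoidHom.mk' (fun x => (fun j => if (j : ℕ) + 1 = m then x.2 else x.1 ^ ((j : ℕ) + 1), x.1 * x.2))
    fun x y => Prod.ext (funext fun j => by simp only [Prod.fst_mul, Pi.mul_apply]; split_ifs <;>
      simp [mul_pow]) (by simp [mul_mul_mul_comm])

theorem tx_tD {m : ℕ} (hm : 1 ≤ m) (x : Fˣ × Fˣ) : ∀ k, Frame.tx (tD m x).1 k =
    if k = m then (x.2 : F) else if k < m then (x.1 : F) ^ k else 1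
  | 0 => by rw [if_neg (by omega), if_pos (by omega)]; simp [Frame.tx]
  | k + 1 => by
    simp only [Frame.tx, tD, MonoidHom.mk'_apply]
    split_ifs <;> first | omega | simp

variable [Fintype F] [FiniteDimensional F V] (hP : P.ND)
include hP

theorem o_mult_D {m : ℕ} (Φ : Frame P m false) (hl : Lifts.{u} P) (h7 : 7 ≤ finrank F V) :
    HasSchurMultiplier (P.EG ⧸ center P.EG) (AD F (m + 1)) := by
  haveI := Module.finite_of_finite F (M := V)
  have h0 : Φ.V0 = ⊥ := eq_bot_iff.2 fun x hx => Φ.aniso x hx (by_contra fun h =>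
    absurd (Φ.sh_of hx (QEq.self x) fun e => h (o_sing_iff.2 e)) (by simp))
  have h1 := Φ.finrank_V0 hP
  rw [h0, finrank_bot] at h1
  have hm : 1 ≤ m := by omega
  refine Φ.mult_of hP (hP.rich (by omega)) hl ⟨(1, -1), by simp [AD]⟩ (fun S _ σ =>
    ⟨((Φ.ψD σ hm).comp (tD m)).comp (AD F (m + 1)).subtype, fun k hk ⟨c, hc⟩ => ?_, fun x => ?_,
      fun x hx => ?_⟩) fun hp => ?_
  · obtain ⟨⟨t, s⟩, rfl⟩ := Φ.ψD_surj σ hm hk (Φ.mono_of fun a => ⟨c, hc _⟩)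
    have h2 : c * c = 1 := Φ.sc_norm hc
    have h3 := fun j (hj : j ≤ m) => Φ.eq_of_v ((Φ.ψD_v σ hm (t, s) (a := ⟨j, by omega⟩) hj).symm.trans (hc _))
    simp only [RingHom.id_apply] at h3
    have h4 := tx_eq_pow (t := t) (c := c) (n := m - 1) fun j hj => by
      simpa [show j + 1 ≠ m by omega, show j ≠ m by omega] using h3 j (by omega)
    have h5 := h3 (m - 1) (by omega)
    have h6 := h3 m le_rfl
    rw [Nat.sub_add_cancel hm, if_pos rfl, h4 _ le_rfl] at h5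
    rw [if_neg (by omega), if_pos rfl, show Frame.tx t (m + 1) = 1 by simp [Frame.tx]] at h6
    have h7 := Frame.tx_ne t m
    have h8 := left_ne_zero_of_mul_eq_one h2
    field_simp at h5 h6
    refine ⟨⟨(Units.mk0 c h8, Units.mk0 _ h7), Units.ext (by simp [sq, h2]), Units.ext ?_⟩,
      congrArg (Φ.ψD σ hm) (Prod.ext (tx_ext fun k hk => ?_) (Units.ext ?_))⟩
    · obtain ⟨m, rfl⟩ := Nat.exists_eq_add_of_le' hm
      simp only [Nat.add_sub_cancel, Units.val_pow_eq_pow_val, Units.val_mk0] at h5 ⊢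
      rw [h6] at h5
      linear_combination c * h5 - Frame.tx t (m + 1) ^ 2 * h2
    · rw [tx_tD hm]; split_ifs with e1 e2
      · rw [e1]; rfl
      · exact (h4 k (by omega)).symm
      · omega
    · simp [tD, h6, mul_comm]
  · obtain ⟨⟨c, r⟩, h2, h3⟩ := x
    replace h2 : (c : F) * c = 1 := by rw [← sq]; exact congrArg Units.val h2
    replace h3 : (r : F) ^ 2 = c ^ (m + 1) := congrArg Units.val h3
    refine Φ.isSc_of (Φ.ψD_Dg σ hm _) h2 (fun a ha => (Φ.ψD_v σ hm _ ha).trans ?_) (by simp [h0])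
    rw [tx_tD hm, tx_tD hm]
    congr 1
    simp only [tD, MonoidHom.mk'_apply, coe_subtype, RingHom.id_apply, Units.val_mul]
    split_ifs with e1 e2 <;> try omega
    · rw [← e1] at h3; field_simp; linear_combination h3 + c ^ (a : ℕ) * h2
    all_goals field_simp
    ring
  · obtain ⟨⟨c, r⟩, h2, h3⟩ := x
    have := Φ.ψD_v σ hm (tD m (c, r)) (a := ⟨0, by omega⟩) (by simp)
    rw [show σ.θ (Φ.ψD σ hm (tD m (c, r))) = 1 from hx, one_smul, tx_tD hm, tx_tD hm] at this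
    replace this := Φ.eq_of_v ((one_smul F _).trans this)
    simp only [show 0 + 1 ≠ m by omega, show 0 ≠ m by omega, show 0 + 1 < m by omega,
      show 0 < m by omega, if_true, if_false] at this
    obtain rfl : c = 1 := Units.ext (by simpa using this.symm)
    rcases sq_eq_one_iff.1 (show (r : F) ^ 2 = 1 by simpa using congrArg Units.val h3) with e | e
    · exact Or.inl (Subtype.ext (Prod.ext rfl (Units.ext e)))
    · exact Or.inr (Subtype.ext (Prod.ext rfl (Units.ext e)))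
  · by_cases h2 : (2 : F) = 0
    · refine Or.inl ⟨fun x y => ?_⟩
      have : ∀ x : AD F (m + 1), x = 1 := fun ⟨⟨c, r⟩, h3, h4⟩ => by
        obtain rfl := sq_one_of_two h2 h3
        obtain rfl := sq_one_of_two h2 (h4.trans (one_pow _))
        rfl
      rw [this x, this y]
    · exact Or.inr (exists_spin hP h2 h7 hp)

end Cfsg.Agent.Cl
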