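import Cfsg.Agent.Cl.Frm

set_option autoImplicit false

/-! Central extensions of symplectic and unitary groups of small rank. -/

namespace Cfsg.Agent.Cl

open Subgroup Cfsg.Agent.RGD Cfsg.Agent.Stein Cfsg.Agent.Cover Cfsg.Agent.Polar Cfsg.Agent.Polar.PQ
open scoped commutatorElement

section general

variable {E G : Type*} [Group E] [Group G] {θ : E →* G}

theorem comm_inf_ker (hk : θ.ker ≤ center E) {A N D C : Subgroup E} {h : E}
    (hAD : ⁅A, A⁆ ≤ D) (hCD : ⁅C, A⁆ ≤ D) (hc : ∀ a ∈ A, ∀ d ∈ D, Commute a d)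
    (hD : D ⊓ θ.ker = ⊥) (nA : ∀ g ∈ N, ∀ a ∈ A, g * a * g⁻¹ ∈ A)
    (nD : ∀ g ∈ N, ∀ d ∈ D, g * d * g⁻¹ ∈ D) (hh : h ∈ N)
    (hN : ∀ g ∈ N, h⁻¹ * (g * h * g⁻¹) ∈ C)
    (inj : ∀ a ∈ A, θ ⁅h, a⁆ ∈ D.map θ → θ a ∈ D.map θ)
    (surj : ∀ a ∈ A, ∃ a' ∈ A, ∃ d ∈ D, θ a = θ (⁅h, a'⁆ * d)) : ⁅N, A⁆ ⊓ θ.ker = ⊥ := by
  have h1 : ∀ a ∈ A, ⁅h, a⁆ ∈ A := fun a ha => mul_mem (nA h hh a ha) (inv_mem ha)
  obtain ⟨M, hM⟩ := exists_commSub_mod h1 hAD hc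
  refine inf_ker_mono (Y := M) (commutator_le.2 fun g hg a ha => ?_) (eq_bot_iff.2 ?_)
  · obtain ⟨a', ha', d, hd, e⟩ := surj a ha
    rw [comm_eq_of_map_eq hk rfl e, commutatorElement_def]
    refine mul_mem ?_ (inv_mem ((hM _).2 ⟨a', ha', d, hd, rfl⟩))
    have h2 := nA g hg a' ha'
    have h3 := nD h hh _ (hCD (commutator_mem_commutator (hN g hg) h2))
    refine (hM _).2 ⟨_, h2, _, mul_mem h3 (nD g hg d hd), ?_⟩
    rw [← mul_assoc ⁅h, _⁆, (hc _ (h1 _ h2) _ h3).eq]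
    simp only [commutatorElement_def]; group
  · rintro _ ⟨hy, hy'⟩
    obtain ⟨a, ha, d, hd, rfl⟩ := (hM _).1 hy
    obtain ⟨d', hd', e⟩ := inj a ha ⟨d⁻¹, inv_mem hd, by
      rw [map_inv, inv_eq_iff_mul_eq_one, ← map_mul, ← (hc _ (h1 a ha) d hd).eq]; exact hy'⟩
    refine hD.le ⟨mul_mem ?_ hd, hy'⟩
    rw [comm_eq_of_map_eq hk rfl e.symm]
    exact D.mul_mem (nD h hh _ hd') (inv_mem hd')

end general

variable {F : Type*} [Field F] {τ : F →+* F} {π : FP F τ}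
variable {V : Type*} [AddCommGroup V] [Module F V] {P : PQ π V}

variable (P) in
/-- an element acting as a scalar on the complement of a hyperbolic pair -/
structure Sc (e f : V) (h : P.Iso) (t s : F) : Prop where
  hyp : P.Hyp e f
  mem : h ∈ P.EG
  ne : t ≠ 0
  he : h • e = t • e
  hW : ∀ x ∈ P.perp {e, f}, h • x = s • x

namespace Sc

variable {e f : V} {h : P.Iso} {t s : F} (k : Sc P e f h t s)
include k

theorem perp {x : V} (hx : P.B x e = 0) : ∃ b : F, h • x = s • x + b • e := by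
  have := k.hW _ (k.hyp.hproj_mem x)
  rw [hproj_apply, hx, mul_zero, zero_smul, sub_zero, smul_sub, act_smul, k.he,
    sub_eq_iff_eq_add] at this
  exact ⟨P.B x f * (t - s), this.trans (by module)⟩

theorem mem_pst : h ∈ P.pst e := ⟨t, k.ne, k.he⟩

theorem cent {g : P.Iso} (hg : g ∈ P.pst e) : h⁻¹ * (g * h * g⁻¹) ∈ P.U e := by
  obtain ⟨a', -, h1⟩ := inv_mem hg
  obtain ⟨a, ha, h2⟩ := hg
  have h3 : g • a' • e = e := by rw [← h1, smul_inv_smul]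
  refine ⟨?_, fun x hx => ?_⟩
  · rw [mul_smul, inv_smul_eq_iff, mul_smul, mul_smul, h1, act_smul, k.he, smul_comm a' t, act_smul, h3]
  · obtain ⟨b, hb⟩ := k.perp (x := g⁻¹ • x) (by rw [B_act_left, inv_inv, h2]; simp [hx])
    obtain ⟨b', hb'⟩ := k.perp hx
    refine ⟨(b * a - b') / t, ?_⟩
    rw [mul_smul, inv_smul_eq_iff, mul_smul, mul_smul, hb, smul_add, smul_add, hb', act_smul,
      act_smul, act_smul, smul_inv_smul, h2, k.he]
    have := k.ne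
    match_scalars <;> field_simp <;> ring

theorem conj {x : V} (hx : x ∈ P.perp {e, f}) {c : F} (o : P.EOk e x c) :
    h * P.eich e x c * h⁻¹ = P.eich e ((τ t * s) • x) (t * τ t * c) := by
  rw [(conj_eich_smul o k.ne k.he).2, k.hW x hx, smul_smul]

theorem comm {x : V} (hx : x ∈ P.perp {e, f}) {c : F} (o : P.EOk e x c) :
    ∃ c', P.EOk e ((τ t * s - 1) • x) c' ∧ ⁅h, P.eich e x c⁆ = P.eich e ((τ t * s - 1) • x) c' := by
  have := comm_eich o k.he k.ne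
  rwa [k.hW x hx, smul_smul, ← one_smul F x, smul_smul, ← sub_smul, mul_one, one_smul] at this

theorem comm_lam {l : F} (hl : l ∈ π.Λ) :
    ⁅h, P.eich e 0 l⁆ = P.eich e 0 ((t * τ t - 1) * l) := by
  have o := EOk.lam k.hyp.left hl
  rw [commutatorElement_def, k.conj (zero_mem _) o, smul_zero, o.eich_inv,
    (EOk.lam k.hyp.left (π.lam_smul t l hl)).eich_mul o.neg]
  simp only [neg_zero, add_zero, map_zero]
  congr 1; linear_combination π.lam_max l hl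

end Sc

theorem mem_Z {e : V} (he : P.Sing e) {g : P.Iso} :
    g ∈ UW P e ⊥ ↔ ∃ l ∈ π.Λ, g = P.eich e 0 l := by
  refine ⟨fun hg => ?_, fun ⟨l, hl, e1⟩ => e1 ▸ eich_mem_UW (zero_mem _) (EOk.lam he hl)⟩
  obtain ⟨_, rfl, c, o, rfl⟩ := hg he
  exact ⟨c, (sing_iff_of_QEq o.val).1 sing_zero, rfl⟩

theorem lam_mem_Z {e : V} (he : P.Sing e) {l : F} (hl : l ∈ π.Λ) : P.eich e 0 l ∈ UW P e ⊥ :=
  (mem_Z he).2 ⟨l, hl, rfl⟩

theorem conj_mem_Z {e : V} (he : P.Sing e) {g u : P.Iso} (hg : g ∈ P.pst e) (hu : u ∈ UW P e ⊥) :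
    g * u * g⁻¹ ∈ UW P e ⊥ := by
  obtain ⟨t, ht, h⟩ := hg
  exact cj_le_iff.1 (cj_UW_le he ht h fun x hx => by rw [hx, smul_zero]; exact zero_mem _) u hu

variable (π) in
/-- the form parameter is a vector space over the fixed field -/
def Lin : Prop := ∀ r, τ r = r → ∀ l ∈ π.Λ, r * l ∈ π.Λ

theorem Lin.inv (h : Lin π) (t : F) {l : F} (hl : l ∈ π.Λ) : (t * τ t - 1)⁻¹ * l ∈ π.Λ :=
  h _ (by simp [π.tau_tau, mul_comm]) l hl

variable {E : Type*} [Group E] {θ : E →* P.Iso}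

variable (θ) in
/-- the lift of the radical -/
def YS (e : V) : Subgroup E := ⁅(P.pst e).comap θ, (P.U e).comap θ⁆

variable (θ) in
/-- the lift of the transvection group -/
def ZS (e : V) : Subgroup E := ⁅(P.pst e).comap θ, (UW P e ⊥).comap θ⁆

theorem cj_pst (g : P.Iso) (e : V) : cj g (P.pst e) ≤ P.pst (g • e) := cj_le_iff.2 fun x ⟨t, h1, h2⟩ =>
  ⟨t, h1, by rw [mul_smul, mul_smul, inv_smul_smul, h2, act_smul]⟩

theorem cj_YS (g : E) (e : V) : cj g (YS θ e) ≤ YS θ (θ g • e) := by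
  rw [YS, cj_commutator, cj_comap, cj_comap, cj_U]
  exact commutator_mono (comap_mono (cj_pst _ _)) le_rfl

theorem nU {e : V} : ∀ g ∈ (P.pst e).comap θ, ∀ a ∈ (P.U e).comap θ, g * a * g⁻¹ ∈ (P.U e).comap θ :=
  fun g hg a ha => by simpa using conj_mem_U_of_pst hg ha

theorem nZ {e : V} (he : P.Sing e) : ∀ g ∈ (P.pst e).comap θ, ∀ a ∈ (UW P e ⊥).comap θ,
    g * a * g⁻¹ ∈ (UW P e ⊥).comap θ := fun g hg a ha => by simpa using conj_mem_Z he hg ha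

theorem comm_le_of_norm {N A : Subgroup E} (h : ∀ g ∈ N, ∀ a ∈ A, g * a * g⁻¹ ∈ A) : ⁅N, A⁆ ≤ A :=
  commutator_le.2 fun g hg a ha => mul_mem (h g hg a ha) (inv_mem ha)

theorem norm_comm {N A B : Subgroup E} (h : ∀ g ∈ N, ∀ a ∈ A, g * a * g⁻¹ ∈ A)
    (h' : ∀ g ∈ N, ∀ a ∈ B, g * a * g⁻¹ ∈ B) : ∀ g ∈ N, ∀ a ∈ ⁅A, B⁆, g * a * g⁻¹ ∈ ⁅A, B⁆ :=
  fun g hg => cj_le_iff.1 (by
    rw [cj_commutator]; exact commutator_mono (cj_le_iff.2 (h g hg)) (cj_le_iff.2 (h' g hg)))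

theorem nZS {e : V} (he : P.Sing e) : ∀ g ∈ (P.pst e).comap θ, ∀ a ∈ ZS θ e, g * a * g⁻¹ ∈ ZS θ e :=
  norm_comm (fun _ hg _ ha => mul_mem (mul_mem hg ha) (inv_mem hg)) (nZ he)

variable (θ) in
/-- an invariant lift of the transvection group -/
structure DD (e : V) (D : Subgroup E) : Prop where
  le : D ≤ YS θ e
  map : D.map θ = UW P e ⊥
  ker : D ⊓ θ.ker = ⊥
  comm : ⁅(P.U e).comap θ, (P.U e).comap θ⁆ ≤ D
  norm : ∀ g ∈ (P.pst e).comap θ, ∀ a ∈ D, g * a * g⁻¹ ∈ D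

namespace CE

variable (c : CE θ) {e f : V} {h : P.Iso} {t s : F} (k : Sc P e f h t s)
  (c1 : P.U e ≤ Cz θ (UW P e ⊥))
include c k

theorem sc_cent : ∀ g ∈ (P.pst e).comap θ, (c.L h)⁻¹ * (g * c.L h * g⁻¹) ∈ (P.U e).comap θ :=
  fun g hg => by simpa [c.θ_L k.mem] using k.cent hg

theorem sc_mem : c.L h ∈ (P.pst e).comap θ := by rw [mem_comap, c.θ_L k.mem]; exact k.mem_pst

theorem map_ZS (hΛ : Lin π) (ht : t * τ t ≠ 1) : (ZS θ e).map θ = UW P e ⊥ := by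
  refine le_antisymm (map_le_iff_le_comap.2 (comm_le_of_norm (nZ k.hyp.left))) fun g hg => ?_
  obtain ⟨l, hl, rfl⟩ := (mem_Z k.hyp.left).1 hg
  have h2 := hΛ.inv t hl
  refine ⟨_, commutator_mem_commutator (c.sc_mem k) (g₂ := c.L (P.eich e 0 _))
    (by rw [mem_comap, c.θ_LE]; exact lam_mem_Z k.hyp.left h2), ?_⟩
  rw [map_commutatorElement, c.θ_L k.mem, c.θ_LE, k.comm_lam h2,
    mul_inv_cancel_left₀ (sub_ne_zero.2 ht)]

include c1

theorem ZS_ker (hΛ : Lin π) (ht : t * τ t ≠ 1) : ZS θ e ⊓ θ.ker = ⊥ := by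
  have h1 : ⁅(P.U e).comap θ, (UW P e ⊥).comap θ⁆ = ⊥ :=
    comm_bot_of_commute fun a ha b hb => Cz_commute c.ker (c1 ha) hb
  have h2 := sub_ne_zero.2 ht
  refine comm_inf_ker c.ker (D := ⊥) ((commutator_mono (comap_mono (UW_le_U k.hyp.left _)) le_rfl).trans
    h1.le) h1.le (by simp) (by simp) (nZ k.hyp.left) (by simp) (c.sc_mem k) (c.sc_cent k)
    (fun a ha h3 => ?_) fun a ha => ?_
  all_goals obtain ⟨l, hl, e1⟩ := (mem_Z k.hyp.left).1 ha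
  · rw [Subgroup.map_bot, mem_bot] at h3 ⊢
    rw [map_commutatorElement, c.θ_L k.mem, e1, k.comm_lam hl, ← eich_zero e] at h3
    have := (k.hyp.eich_inj (EOk.lam k.hyp.left (by
      rw [sub_mul, one_mul]; exact sub_mem (π.lam_smul t l hl) hl)) (by simp) (EOk.zero k.hyp.left)
      (by simp) h3).2
    rw [e1, (mul_eq_zero.1 this).resolve_left h2, eich_zero]
  · have h3 := hΛ.inv t hl
    refine ⟨c.L (P.eich e 0 _), by rw [mem_comap, c.θ_LE]; exact lam_mem_Z k.hyp.left h3, 1,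
      one_mem _, ?_⟩
    rw [mul_one, map_commutatorElement, c.θ_L k.mem, c.θ_LE, k.comm_lam h3,
      mul_inv_cancel_left₀ h2, e1]

theorem dd_ZS (hΛ : Lin π) (ht : t * τ t ≠ 1)
    (h1 : ⁅(P.U e).comap θ, (P.U e).comap θ⁆ ≤ ZS θ e) : DD θ e (ZS θ e) :=
  ⟨commutator_mono le_rfl (comap_mono (UW_le_U k.hyp.left _)), c.map_ZS k hΛ ht,
    c.ZS_ker k c1 hΛ ht, h1, nZS k.hyp.left⟩

variable {D : Subgroup E} (d : DD θ e D) (hs : τ t * s ≠ 1)
include d hs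

omit c1 in
theorem YS_surj {a : E} (ha : a ∈ (P.U e).comap θ) :
    ∃ a' ∈ (P.U e).comap θ, ∃ y ∈ D, θ a = θ (⁅c.L h, a'⁆ * y) := by
  obtain ⟨x, hx, b, o, e1⟩ := k.hyp.mem_U_iff.1 ha
  have h1 := Submodule.smul_mem _ (τ t * s - 1)⁻¹ hx
  obtain ⟨b', o', e2⟩ := k.comm h1 (EOk.of_perp o.sing (mem_perp_pair.1 h1).1)
  rw [smul_smul, mul_inv_cancel₀ (sub_ne_zero.2 hs), one_smul] at o' e2
  obtain ⟨y, hy, e3⟩ := d.map.ge (lam_mem_Z o.sing (o.val.sub_mem o'.val))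
  refine ⟨c.L (P.eich e _ (P.Q ((τ t * s - 1)⁻¹ • x))),
    by rw [mem_comap, c.θ_LE]; exact eich_mem_U _ ((τ t * s - 1)⁻¹ • x) _, y, hy, ?_⟩
  rw [map_mul, map_commutatorElement, c.θ_L k.mem, c.θ_LE, e2, e3, e1, o.eich_eq_mul o']

omit c1 in
theorem map_YS : (YS θ e).map θ = P.U e := by
  refine le_antisymm (map_le_iff_le_comap.2 (comm_le_of_norm nU)) fun g hg => ?_
  obtain ⟨g, rfl⟩ := c.ran (k.hyp.U_le_EG hg)
  obtain ⟨a, ha, y, hy, e1⟩ := c.YS_surj k d hs hg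
  exact ⟨_, mul_mem (commutator_mem_commutator (c.sc_mem k) ha) (d.le hy), e1.symm⟩

theorem YS_ker : YS θ e ⊓ θ.ker = ⊥ := by
  refine comm_inf_ker c.ker d.comm d.comm (fun a ha y hy => Cz_commute c.ker (c1 ha)
    (d.map ▸ mem_map_of_mem θ hy)) d.ker nU d.norm (c.sc_mem k) (c.sc_cent k) (fun a ha h3 => ?_)
    fun a => c.YS_surj k d hs
  obtain ⟨x, hx, b, o, e1⟩ := k.hyp.mem_U_iff.1 ha
  obtain ⟨b', o', e2⟩ := k.comm hx o
  rw [d.map] at h3 ⊢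
  rw [map_commutatorElement, c.θ_L k.mem, e1, e2, mem_Z o.sing] at h3
  obtain ⟨l, hl, e3⟩ := h3
  have := (k.hyp.eich_inj o' (by simp [(mem_perp_pair.1 hx).2]) (EOk.lam o.sing hl) (by simp) e3).1
  rw [e1]
  exact eich_mem_UW ((smul_eq_zero.1 this).resolve_left (sub_ne_zero.2 hs)) o

end CE

variable (θ) in
/-- the hypotheses of the lifting theorem in small rank -/
structure Sm : Prop extends CE θ where
  c1 : ∀ {e f}, P.Hyp e f → P.U e ≤ Cz θ (UW P e ⊥)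
  dd : ∀ {e f}, P.Hyp e f → ∃ D, DD θ e D
  sc : ∀ {e f}, P.Hyp e f → ∃ h t s, Sc P e f h t s ∧ τ t * s ≠ 1

namespace Sm

variable (b : Sm θ)
include b

theorem ker_YS {e f : V} (h : P.Hyp e f) : YS θ e ⊓ θ.ker = ⊥ := by
  obtain ⟨D, d⟩ := b.dd h
  obtain ⟨g, t, s, k, hs⟩ := b.sc h
  exact b.toCE.YS_ker k (b.c1 h) d hs

/-- the system of lifts -/
def usys : USys P E where
  θ := θ
  Y := YS θ
  map_Y h := by
    obtain ⟨D, d⟩ := b.dd h
    obtain ⟨g, t, s, k, hs⟩ := b.sc h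
    exact b.toCE.map_YS k d hs
  ker_Y := b.ker_YS
  conj g e := cj_eq_of_le (cj_YS g e) ((cj_YS g⁻¹ (θ g • e)).trans (by rw [map_inv, inv_smul_smul]))
  smul e t ht := by rw [YS, YS, pst_smul ht, U_smul ht]
  compat {e e' w w'} h g hg hx := by
    obtain ⟨k, t, s, hk, hs⟩ := b.sc h.h1
    obtain ⟨u, hu⟩ := hx h.ok
    have h1 := hk.hW w (mem_perp_pair.2 ⟨h.we, h.we'⟩)
    have h2 := h.comm_scale (conj_eich_long h.ok hk.ne hk.he h1) ((τ t * s - 1)⁻¹ * u)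
    rw [mul_inv_cancel_left₀ (sub_ne_zero.2 hs), ← hu, ← b.toCE.θ_L hk.mem, ← b.toCE.θ_LE e,
      ← map_commutatorElement] at h2
    rw [← eq_of_inf_ker (b.ker_YS h.h1) (commutator_mem_commutator (b.toCE.sc_mem hk)
      (by rw [mem_comap, CE.θ_LE]; exact eich_mem_U _ _ _)) hg h2]
    refine commutator_mem_commutator ?_ ?_ <;> rw [mem_comap]
    · rw [b.toCE.θ_L hk.mem]; exact mem_pst_of_eq h.h2.left_ne_zero h1
    · rw [CE.θ_LE]; exact Xl_le_U h.symm.ok (Xl_swap h.ok ▸ eich_mem_Xl _ _ _)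

theorem lifts : ∃ σ : USys P E, σ.θ = θ ∧ ∀ e, σ.Y e ≤ commutator E :=
  ⟨b.usys, rfl, fun _ => commutator_mono le_top le_top⟩

end Sm

namespace CE

variable (c : CE θ) {e f : V}
include c

/-- the commutator pairing on the radical -/
noncomputable def g (e x y : V) : E := ⁅c.L (P.eich e x (P.Q x)), c.L (P.eich e y (P.Q y))⁆

theorem θ_g (he : P.Sing e) {x y : V} (hx : P.B x e = 0) (hy : P.B y e = 0) :
    θ (c.g e x y) = P.eich e 0 (P.B y x - P.B x y) := by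
  rw [g, map_commutatorElement, c.θ_LE, c.θ_LE, commutatorElement_def,
    eich_comm (EOk.of_perp he hx) (EOk.of_perp he hy)]

theorem g_mem (he : P.Sing e) {x y : V} (hx : P.B x e = 0) (hy : P.B y e = 0) :
    θ (c.g e x y) ∈ UW P e ⊥ := by
  rw [c.θ_g he hx hy]
  exact lam_mem_Z he (by have := π.lam_min (P.B y x); rwa [← P.symm] at this)

theorem L_mem (e x : V) (a : F) : c.L (P.eich e x a) ∈ (P.U e).comap θ := by
  rw [mem_comap, c.θ_LE]; exact eich_mem_U _ _ _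

theorem c1_of {v v' : V} (h : Hyp2 P e f v v') (hr : (∃ c ∈ π.Λ, c ≠ 0) ∧ Gen π) :
    P.U e ≤ Cz θ (UW P e ⊥) := fun g hg => by
  obtain ⟨x, hx, a, o, rfl⟩ := h.h1.mem_U_iff.1 hg
  exact Cz_anti (Z_le_Xc o.sing e) ((c.t3 le_rfl o.sing (fun _ hx => (mem_perp_pair.1 hx).1) h.h2
    (mem_perp_pair.2 ⟨o.sing.B_self, o.sing.B_self⟩) (mem_perp_pair.2 ⟨h.we, h.we⟩)
    (mem_perp_pair.2 ⟨h.w'e, h.w'e⟩)).UW_le (Or.inl hr)
    (eich_mem_UW (mem_perp_pair.2 ⟨o.perp, o.perp⟩) o))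

variable (c1 : P.U e ≤ Cz θ (UW P e ⊥))
include c1

theorem g_eq {a b : E} {x y : V} {s t : F} (o : P.EOk e x s) (o' : P.EOk e y t)
    (ha : θ a = P.eich e x s) (hb : θ b = P.eich e y t) : ⁅a, b⁆ = c.g e x y := by
  have k1 := EOk.of_perp o.sing o.perp
  have k2 := EOk.of_perp o.sing o'.perp
  have h1 : θ b ∈ P.U e := hb ▸ eich_mem_U _ _ _
  rw [o.eich_eq_mul k1, ← c.θ_LE e x, ← c.θ_LE e 0, ← map_mul] at ha
  rw [o'.eich_eq_mul k2, ← c.θ_LE e y, ← c.θ_LE e 0, ← map_mul] at hb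
  rw [comm_eq_of_map_eq c.ker ha rfl, comm_mul_left_of_commute, comm_eq_of_map_eq c.ker rfl hb,
    comm_mul_right_of_commute, g]
  · exact (Cz_commute c.ker (c1 (c.L_mem _ _ _))
      (by rw [c.θ_LE]; exact lam_mem_Z o.sing (o'.val.sub_mem k2.val))).symm
  · exact (Cz_commute c.ker (c1 h1)
      (by rw [c.θ_LE]; exact lam_mem_Z o.sing (o.val.sub_mem k1.val))).symm

theorem comm_le (h : P.Hyp e f) {T : Subgroup E}
    (hT : ∀ x ∈ P.perp {e, f}, ∀ y ∈ P.perp {e, f}, c.g e x y ∈ T) :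
    ⁅(P.U e).comap θ, (P.U e).comap θ⁆ ≤ T := commutator_le.2 fun a ha b hb => by
  obtain ⟨x, hx, s, o, e1⟩ := h.mem_U_iff.1 ha
  obtain ⟨y, hy, t, o', e2⟩ := h.mem_U_iff.1 hb
  rw [c.g_eq c1 o o' e1 e2]; exact hT x hx y hy

variable (he : P.Sing e)
include he

theorem g_conj {n : E} {t : F} (ht : t ≠ 0) (hn : θ n • e = t • e) {x y : V} (hx : P.B x e = 0)
    (hy : P.B y e = 0) : n * c.g e x y * n⁻¹ = c.g e (τ t • θ n • x) (τ t • θ n • y) := by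
  obtain ⟨o1, e1⟩ := conj_eich_smul (EOk.of_perp he hx) ht hn
  obtain ⟨o2, e2⟩ := conj_eich_smul (EOk.of_perp he hy) ht hn
  rw [g, conjugate_commutatorElement, c.g_eq c1 o1 o2 (by simp [c.θ_LE, e1]) (by simp [c.θ_LE, e2])]

theorem g_addL {x x' y : V} (hx : P.B x e = 0) (hx' : P.B x' e = 0) (hy : P.B y e = 0) :
    c.g e (x + x') y = c.g e x y * c.g e x' y := by
  have o := EOk.of_perp he hx
  have o' := EOk.of_perp he hx'
  rw [add_comm, ← c.g_eq c1 (o'.add o) (EOk.of_perp he hy)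
    (a := c.L (P.eich e x' (P.Q x')) * c.L (P.eich e x (P.Q x)))
    (by rw [map_mul, c.θ_LE, c.θ_LE, o'.eich_mul o]) (c.θ_LE _ _ _),
    commutatorElement_mul_left_eq_conj_mul, ← g,
    (Cz_commute c.ker (c1 (c.L_mem _ _ _)) (c.g_mem he hx hy)).eq, mul_inv_cancel_right]
  rfl

theorem g_addR {x y y' : V} (hx : P.B x e = 0) (hy : P.B y e = 0) (hy' : P.B y' e = 0) :
    c.g e x (y + y') = c.g e x y * c.g e x y' := by
  have o := EOk.of_perp he hy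
  have o' := EOk.of_perp he hy'
  rw [← c.g_eq c1 (EOk.of_perp he hx) (o.add o') (c.θ_LE _ _ _)
    (b := c.L (P.eich e y (P.Q y)) * c.L (P.eich e y' (P.Q y')))
    (by rw [map_mul, c.θ_LE, c.θ_LE, o.eich_mul o']),
    commutatorElement_mul_right_eq_mul_conj, mul_assoc, mul_assoc, ← mul_assoc (c.L _), ← g, ← g,
    (Cz_commute c.ker (c1 (c.L_mem _ _ _)) (c.g_mem he hx hy')).eq, mul_inv_cancel_right]

omit he
variable {v v' : V} (h : Hyp2 P e f v v')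
include h

theorem invForm2 (hr : ∃ c ∈ π.Λ, c ≠ 0) (h2 : UW P v h.W ≤ Cz θ (UW P e ⊥))
    (h2' : UW P v' h.W ≤ Cz θ (UW P e ⊥)) : InvForm P (P.perp {e, f}) v v' (c.g e) := by
  have he := h.h1.left
  have p := fun {x} (hx : x ∈ P.perp {e, f}) => (mem_perp_pair.1 hx).1
  have key : ∀ {u z a}, P.EOk u z a → P.B u e = 0 → P.B z e = 0 → P.eich u z a ∈ Cz θ (UW P e ⊥) →
      ∀ x ∈ P.perp {e, f}, ∀ y ∈ P.perp {e, f},
      c.g e (P.eich u z a • x) (P.eich u z a • y) = c.g e x y := fun {u z a} o h3 h4 h5 x hx y hy => by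
    have := c.g_conj c1 he (n := c.L (P.eich u z a)) one_ne_zero
      (by rw [c.θ_LE, o.eich_smul_of_perp₂ (B_swap_zero h3) (B_swap_zero h4), one_smul]) (p hx) (p hy)
    rw [map_one, one_smul, one_smul, c.θ_LE, (Cz_commute c.ker (by rwa [c.θ_LE])
      (c.g_mem he (p hx) (p hy))).eq, mul_inv_cancel_right] at this
    exact this.symm
  refine ⟨h.h2, mem_perp_pair.2 ⟨h.we, h.we'⟩, mem_perp_pair.2 ⟨h.w'e, h.w'e'⟩,
    fun x hx x' hx' y hy => c.g_addL c1 he (p hx) (p hx') (p hy),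
    fun x hx y hy y' hy' => c.g_addR c1 he (p hx) (p hy) (p hy'), fun z hz a ha x hx y hy => ?_,
    Or.inl hr⟩
  have o : P.EOk v z a := ⟨h.h2.left, (mem_perp_pair.1 hz.2).1, ha⟩
  have o' : P.EOk v' z a := ⟨h.h2.right, (mem_perp_pair.1 hz.2).2, ha⟩
  exact ⟨key o h.we (p hz.1) (h2 (eich_mem_UW hz o)) x hx y hy,
    key o' h.w'e (p hz.1) (h2' (eich_mem_UW hz o')) x hx y hy⟩

omit h in
theorem dd_bal (he : P.Hyp e f) (i : InvForm P (P.perp {e, f}) v v' (c.g e))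
    (hr : ∃ c ∈ π.Λ, c ≠ 0) (hb : π.Λ = ⊤ ∨ NP P (P.perp {e, f} ⊓ P.perp {v, v'}))
    (h1 : ∀ l ∈ π.Λ, ∃ a, l = a - π.ε * τ a) (h2 : ∀ s, s = π.ε * τ s → ∃ a, s = a + π.ε * τ a) :
    DD θ e ⁅(P.U e).comap θ, (P.U e).comap θ⁆ := by
  have hv := fun a : F => Submodule.smul_mem _ a i.mem
  have hv' := fun a : F => Submodule.smul_mem _ a i.mem'
  have h3 : ∀ a : F, θ (c.g e (a • v) v') = P.eich e 0 (-(a - π.ε * τ a)) := fun a => by
    rw [c.θ_g he.left (mem_perp_pair.1 (hv a)).1 (mem_perp_pair.1 i.mem').1]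
    simp [i.hyp.pair, i.hyp.pair', mul_comm]
  have h4 : ∀ x ∈ P.perp {e, f}, ∀ y ∈ P.perp {e, f}, θ (c.g e x y) ∈ UW P e ⊥ := fun x hx y hy =>
    c.g_mem he.left (mem_perp_pair.1 hx).1 (mem_perp_pair.1 hy).1
  let ψ : Multiplicative F →* E := MonoidHom.mk' (fun s => c.g e (s.toAdd • v) v')
    fun s s' => by rw [toAdd_mul, add_smul, i.addL _ (hv _) _ (hv _) _ i.mem']
  refine ⟨commutator_mono (comap_mono (U_le_pst e)) le_rfl, le_antisymm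
    (map_le_iff_le_comap.2 (c.comm_le c1 he h4)) fun g hg => ?_, inf_ker_mono (Y := ψ.range)
    (c.comm_le c1 he fun x hx y hy => i.mem_of (T := ψ.range) (fun a b => ⟨Multiplicative.ofAdd (a * τ b),
      (i.balanced hb a b).symm⟩) hx hy) (eq_bot_iff.2 ?_), le_rfl, norm_comm nU nU⟩
  · obtain ⟨l, hl, rfl⟩ := (mem_Z he.left).1 hg
    obtain ⟨a, ha⟩ := h1 _ (neg_mem hl)
    exact ⟨_, commutator_mem_commutator (c.L_mem _ _ _) (c.L_mem _ _ _),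
      (h3 a).trans (by rw [← ha, neg_neg])⟩
  rintro _ ⟨⟨s, rfl⟩, hs⟩
  obtain ⟨a, ha⟩ := h2 s.toAdd (by
    have := (he.eich_inj (EOk.lam he.left (neg_mem (π.lam_min _))) (by simp) (EOk.zero he.left)
      (by simp) ((h3 _).symm.trans (hs.trans (eich_zero e).symm))).2
    linear_combination -this)
  obtain ⟨l, hl, h0⟩ := hr
  have h5 := i.aux3 hl (a / l) 1
  have h6 : c.g e ((a / l) • v') ((1 * l) • v) = (c.g e ((1 * l) • v) ((a / l) • v'))⁻¹ :=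
    (commutatorElement_inv _ _).symm
  have h7 : 1 * l * τ (a / l) = -(π.ε * τ a) := by
    have := π.lam_max l hl
    have := π.eps_sq
    have := (map_ne_zero τ).2 h0
    rw [map_div₀]; field_simp; grind
  rw [h6, i.balanced hb, h7, div_mul_cancel₀ _ h0, one_smul, neg_smul, neg_smul,
    i.negL (hv _) i.mem', i.negL (hv _) i.mem', inv_inv, eq_inv_iff_mul_eq_one,
    ← i.addL _ (hv _) _ (hv _) _ i.mem', ← add_smul, add_comm, ← ha] at h5
  exact h5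

omit c1 in
theorem c2_of {g : P.Iso} {t : F} (k : Sc P e f g t 1) (hΛ : Lin π) (ht : t * τ t ≠ 1) :
    UW P v h.W ≤ Cz θ (UW P e ⊥) := by
  refine Cz_symm c.ker ((UW_le_EG h.h2.left _).trans c.ran) fun z hz => ?_
  obtain ⟨l, hl, rfl⟩ := (mem_Z h.h1.left).1 hz
  have o := EOk.lam h.h1.left (hΛ.inv t hl)
  rw [← mul_inv_cancel_left₀ (sub_ne_zero.2 ht) l, ← k.comm_lam (hΛ.inv t hl)]
  refine comm_mem_Cz c.ker (c.ran k.mem) (c.ran (eich_mem_EG _ _ _))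
    (commute_UW h.h2.left ?_ fun x hx => ?_) (commute_UW h.h2.left ?_ fun x hx => ?_)
  · rw [k.hW v (mem_perp_pair.2 ⟨h.we, h.we'⟩), one_smul]
  · rw [k.hW x hx.1, one_smul]
  · exact o.eich_smul_of_perp₂ h.we (by simp)
  · exact o.eich_smul_of_perp₂ (mem_perp_pair.1 hx.1).1 (by simp)

omit c1 in
theorem c2_mu {g : P.Iso} {t s : F} (hg : g ∈ P.EG) (ht : t * τ t = 1) (h1 : g • e = t • e)
    (h2 : g • v = v) (hs : s ≠ 1) (h3 : ∀ y ∈ h.W, g • y = s • y) (np : NP P h.W)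
    (h4 : ∀ l ∈ π.Λ, ∃ a, l = a - π.ε * τ a) : UW P v h.W ≤ Cz θ (UW P e ⊥) := by
  have p := fun {x} (hx : x ∈ h.W) => EOk.of_perp h.h2.left (mem_perp_pair.1 hx.2).1
  have k : ∀ {x} (hx : x ∈ h.W) a, ∀ s ∈ UW P e ⊥, Commute s (P.eich v x a) := fun {x} hx a => by
    by_cases o : P.EOk v x a
    · exact commute_UW h.h1.left (o.eich_smul_of_perp₂ h.symm.we
        (B_swap_zero (mem_perp_pair.1 hx.1).1)) (by simp)
    · simp [eich, o]
  refine UW_le h.h2.left fun x hx a o => eich_mem_of_vecs h.h2.left (fun l hl => ?_) ?_ o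
  · obtain ⟨b, rfl⟩ := h4 l hl
    obtain ⟨y, hy, z, hz, rfl⟩ := np.exists_eq b
    rw [← P.symm, ← eich_comm (p hz) (p hy)]
    exact comm_mem_Cz c.ker (c.ran (eich_mem_EG _ _ _)) (c.ran (eich_mem_EG _ _ _)) (k hz _) (k hy _)
  · have h5 := Submodule.smul_mem _ (s - 1)⁻¹ hx
    obtain ⟨o1, e1⟩ := comm_eich_fix (p h5) h2
    have e2 : g • (s - 1)⁻¹ • x - (s - 1)⁻¹ • x = x := by
      have := sub_ne_zero.2 hs
      rw [h3 _ h5]; match_scalars; field_simp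
    rw [e2] at o1 e1
    refine ⟨_, o1, e1 ▸ comm_mem_Cz c.ker (c.ran hg) (c.ran (eich_mem_EG _ _ _)) (fun z hz => ?_)
      (k h5 _)⟩
    obtain ⟨l, hl, rfl⟩ := (mem_Z h.h1.left).1 hz
    have := (conj_eich_smul (EOk.lam h.h1.left hl) (left_ne_zero_of_mul_eq_one ht) h1).2
    rw [smul_zero, smul_zero, ht, one_mul, mul_inv_eq_iff_eq_mul] at this
    exact this.symm

omit c1 in
theorem c2_swap2 (hK : ∀ l ∈ π.Λ, l ≠ 0 → ∀ l' ∈ π.Λ, ∃ n : ℕ, l' = n * l) {p : ℕ} (hp : Odd p)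
    (hp' : (p : F) = 0) (hW : h.W = ⊥) : UW P v h.W ≤ Cz θ (UW P e ⊥) := by
  rw [hW]
  intro z hz
  obtain ⟨l, hl, rfl⟩ := (mem_Z h.h2.left).1 hz
  by_cases h0 : l = 0
  · rw [h0, eich_zero]; exact one_mem _
  obtain ⟨a1, -, -, a2⟩ := h.swapR.wl_act one_ne_zero
  simp only [map_one, inv_one, one_smul, neg_smul] at a1 a2
  have o := EOk.lam h.h1.left hl
  have hadd : ∀ n : ℕ, P.eich e 0 (n * l) = P.eich e 0 l ^ n := fun n => by
    induction n with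
    | zero => simp [eich_zero]
    | succ n ih =>
      rw [pow_succ, ← ih, (EOk.lam o.sing (by simpa using nsmul_mem hl n)).eich_mul o]
      simp [add_mul]
  have e1 := (conj_eich_smul o π.eps_ne_zero a1).2
  rw [π.tau_eps, π.eps_sq, one_mul, smul_zero, smul_zero] at e1
  rw [← e1]
  refine Cz_anti (fun z hz => ?_) (swap_mem_Cz c.ker (c.ran (eich_mem_EG _ _ _))
    (c.ran (Hyp2.wl_mem _ _)) hp ?_ ?_ ?_)
  · obtain ⟨l', hl', rfl⟩ := (mem_Z o.sing).1 hz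
    obtain ⟨n, rfl⟩ := hK l hl h0 l' hl'
    rw [hadd]; exact pow_mem (mem_zpowers _) n
  · rw [← hadd, hp', zero_mul, eich_zero]
  · rw [e1]
    exact commute_eich_eich o (EOk.lam h.h2.left hl) h.we (by simp) (by simp) (by simp)
  · have := (conj_eich_smul o (neg_ne_zero.2 one_ne_zero) (g := h.swapR.wl 1 * h.swapR.wl 1)
      (e' := e) (by rw [mul_smul, a1, a2, neg_one_smul])).2
    simp only [map_neg, map_one, mul_neg, neg_neg, mul_one, smul_zero, one_mul] at this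
    exact (mul_inv_eq_iff_eq_mul.1 this).symm

end CE

theorem Hyp2.W_swap {e f v v' : V} (h : Hyp2 P e f v v') : h.swapR.W = h.W := by
  rw [Hyp2.W, Hyp2.W, perp_pair_swap]

theorem sc_lam {e f : V} (h : P.Hyp e f) {l l' : F} (hl : l ∈ π.Λ) (h0 : l ≠ 0) (hl' : l' ∈ π.Λ)
    (h0' : l' ≠ 0) : τ (l / l') = l / l' ∧ ∃ g, Sc P e f g (l / l') 1 := by
  obtain ⟨g, hg, h1, h2⟩ := h.exists_torus (N := P.EG) (fun _ _ => eich_mem_EG _ _ _)
    (fun _ _ => eich_mem_EG _ _ _) hl h0 hl' h0'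
  refine ⟨?_, g, h, hg, div_ne_zero h0 h0', h1, fun x hx => by rw [h2 x hx, one_smul]⟩
  have := π.lam_max l hl
  have := π.lam_max l' hl'
  have := (map_ne_zero τ).2 h0'
  rw [map_div₀]; field_simp; grind

theorem CE.sm_torus (c : CE θ) (hΛ : Lin π) (hG : Gen π)
    (ex2 : ∀ {e e'}, P.Hyp e e' → ∃ v v', Hyp2 P e e' v v') {l l' : F} (hl : l ∈ π.Λ) (h0 : l ≠ 0)
    (hl' : l' ∈ π.Λ) (h0' : l' ≠ 0) (h1 : (l / l') ^ 2 ≠ 1) : Sm θ := by
  have c1 : ∀ {e f}, P.Hyp e f → P.U e ≤ Cz θ (UW P e ⊥) := fun h => by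
    obtain ⟨v, v', k⟩ := ex2 h
    exact c.c1_of k ⟨⟨l, hl, h0⟩, hG⟩
  refine ⟨c, c1, fun {e f} h => ?_, fun h => ?_⟩
  · obtain ⟨v, v', k⟩ := ex2 h
    obtain ⟨h2, g, s⟩ := sc_lam h hl h0 hl' h0'
    have h3 : l / l' * τ (l / l') ≠ 1 := by rwa [h2, ← sq]
    have i := c.invForm2 (c1 h) k ⟨l, hl, h0⟩ (c.c2_of k s hΛ h3) (k.W_swap ▸ c.c2_of k.swapR s hΛ h3)
    refine ⟨_, c.dd_ZS s (c1 h) hΛ h3 (c.comm_le (c1 h) h fun x hx y hy =>
      i.mem_of (fun a b => ?_) hx hy)⟩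
    generalize l / l' = r at *
    obtain ⟨a1, a2, -, a3⟩ := k.hl_act s.ne
    have p : ∀ a : F, P.B (a • v) e = 0 := fun a => by simp [k.we]
    have p' : P.B (b • v') e = 0 := by simp [k.w'e]
    have h4 := c.g_conj (c1 h) h.left (n := c.L (k.hl r)) ((map_ne_zero τ).2 s.ne)
      (by rw [c.θ_L (k.hl_mem _), a1]) (p ((r ^ 2 - 1)⁻¹ * a)) p'
    have h5 := commutator_mem_commutator (H₁ := (P.pst e).comap θ) (H₂ := (UW P e ⊥).comap θ)
      (g₁ := c.L (k.hl r)) (by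
        rw [mem_comap, c.θ_L (k.hl_mem _)]; exact mem_pst_of_eq h.left_ne_zero a1)
      (c.g_mem h.left (p ((r ^ 2 - 1)⁻¹ * a)) p')
    have h6 := s.ne
    have h7 := sub_ne_zero.2 h1
    rw [commutatorElement_def, h4, c.θ_L (k.hl_mem _), act_smul, act_smul, a2, a3, h2, h2,
      show r • ((r ^ 2 - 1)⁻¹ * a) • r • v =
        a • v + ((r ^ 2 - 1)⁻¹ * a) • v by match_scalars; field_simp; ring,
      show r • b • r⁻¹ • v' = b • v' by match_scalars; field_simp,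
      c.g_addL (c1 h) h.left (p _) (p _) p', mul_inv_cancel_right] at h5
    exact h5
  · obtain ⟨h2, g, s⟩ := sc_lam h hl h0 hl' h0'
    exact ⟨g, _, _, s, fun e => h1 (by rw [h2, mul_one] at e; rw [e, one_pow])⟩

end Cfsg.Agent.Cl
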