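import Cfsg.Agent.Cl.Small
import Cfsg.Agent.Polar.SpOdd
import Cfsg.Agent.RGD.Univ

set_option autoImplicit false

/-! Closedness criteria; the symplectic groups. -/

namespace Cfsg.Agent.Cl

open Subgroup Module Cfsg.Agent.RGD Cfsg.Agent.Cover Cfsg.Agent.Polar Cfsg.Agent.Polar.PQ

universe u

theorem mult_quot_congr {G H A : Type*} [Group G] [Group H] [CommGroup A] (f : G ≃* H)
    (h : HasSchurMultiplier (H ⧸ center H) A) : HasSchurMultiplier (G ⧸ center G) A :=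
  mult_of_equiv (QuotientGroup.congr _ _ f.symm (by
    ext x
    refine mem_map_equiv.trans ?_
    simp only [MulEquiv.symm_symm, mem_center_iff, f.surjective.forall, ← map_mul,
      f.injective.eq_iff])) h

section general

variable {F : Type*} [Field F] {τ : F →+* F} {π : FP F τ}
variable {V : Type u} [AddCommGroup V] [Module F V] {P : PQ π V}

theorem Frame.closed {m : ℕ} {sh : Bool} (Φ : Frame P m sh) (hP : P.ND) (hl : Lifts.{u} P)
    (hk : ∀ (S : Type u) [Group S] (σ : USys P S), US (Φ.X σ) Set.univ ⊓ σ.θ.ker = ⊥) :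
    commutator P.EG = ⊤ ∧ Closed P.EG := by
  refine ⟨?_, fun Γ _ _ ρ h => ?_⟩
  · obtain ⟨σ, h1, h2⟩ := hl _ _ (ce_of (ρ := MonoidHom.id P.EG) Function.surjective_id (by simp))
    exact (Φ.eq_top_of hP Function.surjective_id (by simp) (by simp) h1 h2).2
  · obtain ⟨σ, h1, h2⟩ := hl _ _ (ce_of h.1 h.2.1)
    have := hk Γ σ
    rwa [(Φ.eq_top_of hP h.1 h.2.1 h.2.2 h1 h2).1, top_inf_eq, h1,
      MonoidHom.ker_comp_of_injective _ _ P.EG.subtype_injective] at this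

/-- the centre consists of scalars -/
noncomputable def centerEquiv (hP : P.ND) (hr : P.Rich) {e f : V} (h : P.Hyp e f) (A : Subgroup Fˣ)
    (h1 : ∀ μ ∈ A, (μ : F) * τ μ = 1) (h2 : ∀ (μ : Fˣ) hμ, P.scal μ hμ ∈ P.EG ↔ μ ∈ A) :
    A ≃* center P.EG :=
  MulEquiv.ofBijective (MonoidHom.mk' (fun μ : A => (⟨⟨P.scal _ (h1 μ μ.2), (h2 _ _).2 μ.2⟩,
      mem_center_iff.2 fun g => Subtype.ext (iso_ext fun x => act_smul g.1 _ x)⟩ : center P.EG))
    fun a b => Subtype.ext (Subtype.ext (iso_ext fun x => mul_smul (a.1 : F) (b.1 : F) x)))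
    ⟨fun a b k => Subtype.ext (Units.ext (smul_left_injective F h.left_ne_zero
      (congrArg (fun g : center P.EG => g.1.1 • e) k))), fun z => by
      obtain ⟨t, ht⟩ := exists_scalar_of_commute hP hr h (z := z.1.1) fun g hg =>
        congrArg Subtype.val (mem_center_iff.1 z.2 ⟨g, hg⟩).symm
      have h3 := h.smul_right_eq (ht e) (ht f)
      have h4 : P.scal (Units.mk0 t (left_ne_zero_of_mul_eq_one h3)) h3 = z.1.1 :=
        iso_ext fun x => (ht x).symm
      exact ⟨⟨_, (h2 _ h3).1 (h4 ▸ z.1.2)⟩, Subtype.ext (Subtype.ext h4)⟩⟩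

variable (τ) in
/-- the fixed field -/
abbrev Fix : Subfield F := τ.eqLocusField (RingHom.id F)

theorem fix_tau (u : Fix τ) : τ u = u := u.2

theorem tau_lam {l : F} (hl : l ∈ π.Λ) : τ l = -(π.ε * l) := by
  have := π.lam_max l hl
  have := π.eps_sq
  grind

/-- the parametrization of the transvection group -/
def shortLam (hΛ : Lin π) {l : F} (hl : l ∈ π.Λ) (h0 : l ≠ 0) {W : Submodule F V} (hW : W = ⊥) :
    Short P W (Fix τ) where
  a _ := 0
  c u := u * l
  a' _ := 0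
  c' u := -(u * (τ l)⁻¹)
  mem _ := zero_mem _
  mem' _ := zero_mem _
  val u := sing_zero.of_sub_mem (by simpa using hΛ _ u.2 _ hl)
  val' u := sing_zero.of_sub_mem (by
    simpa using hΛ _ u.2 _ (lam_inv (tau_lam hl ▸ neg_mem (lam_eps hl))))
  a_add := by simp
  c_add := by simp [add_mul]
  a'_add := by simp
  c'_add := by simp [add_mul, add_comm]
  c_ne t ht := mul_ne_zero (by simpa using ht) h0
  inv1 := by simp
  inv2 := by simp
  inv3 t _ := by simp [fix_tau, mul_comm]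
  conj1 := by simp
  conj2 t s _ := by
    have := (map_ne_zero τ).2 h0
    simp only [map_mul, fix_tau]; push_cast; field_simp
  surj x hx d hd := by
    obtain rfl : x = 0 := by simpa [hW] using hx
    have := (sing_iff_of_QEq hd).1 sing_zero
    exact ⟨⟨d / l, by
      have := π.eps_ne_zero
      rw [RingHom.mem_eqLocusField, map_div₀, tau_lam hl, tau_lam ‹_›]; simp; field_simp⟩, rfl,
      (div_mul_cancel₀ _ h0).symm⟩
  scal μ _ := ⟨⟨μ * τ μ, by simp [π.tau_tau, mul_comm]⟩, fun u => ⟨by simp, by simp [mul_assoc]⟩⟩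

theorem Frame.ker_lam [Finite F] {m : ℕ} (Φ : Frame P m true) (hΛ : Lin π) {l : F} (hl : l ∈ π.Λ)
    (h0 : l ≠ 0) (hW : Φ.V0 = ⊥) {S : Type*} [Group S] (σ : USys P S) :
    US (Φ.X σ) Set.univ ⊓ σ.θ.ker = ⊥ :=
  Φ.ker_eq_bot_short σ (shortLam hΛ hl h0 hW) fun t _ h => by
    simp only [shortLam, map_mul, fix_tau, tau_lam hl] at h
    push_cast at h
    exact Subtype.ext (mul_right_cancel₀ (mul_ne_zero π.eps_ne_zero h0) (by simp; linear_combination h))

theorem exists_frame_lam [FiniteDimensional F V] (hP : P.ND) {e : V} (he : P.Sing e) (h0 : e ≠ 0)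
    {l : F} (hl : l ∈ π.Λ) (h1 : l ≠ 0) : ∃ m, Nonempty (Frame P m true) := by
  obtain ⟨m, sh, ⟨Φ⟩⟩ := exists_frame hP he h0
  obtain rfl := Φ.short.2 ⟨0, zero_mem _, l, h1, (EOk.lam he hl).val⟩
  exact ⟨m, ⟨Φ⟩⟩

end general

variable {F : Type*} [Field F] {V : Type u} [AddCommGroup V] [Module F V] {P : PQ (spFP F) V}

theorem sp_lin : Lin (spFP F) := fun _ _ _ _ => trivial

theorem sp_ker [Finite F] {m : ℕ} (Φ : Frame P m true) {S : Type*} [Group S] (σ : USys P S) :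
    US (Φ.X σ) Set.univ ⊓ σ.θ.ker = ⊥ :=
  Φ.ker_lam sp_lin (l := 1) trivial one_ne_zero (eq_bot_iff.2 fun x hx => Φ.aniso x hx trivial) σ

variable [Fintype F] [FiniteDimensional F V] (hP : P.ND)
include hP

theorem sp_lifts (h4 : 4 ≤ finrank F V) (h : 3 ≤ Fintype.card F ∨ 8 ≤ finrank F V) :
    Lifts.{u} P := fun E _ θ c => by
  have ex2 : ∀ {e e'}, P.Hyp e e' → ∃ v v', Hyp2 P e e' v v' := exists_hyp2 hP sp_iso (by omega)
  have hG : 3 ≤ Fintype.card F → Gen (spFP F) := fun h =>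
    Or.inr ⟨rfl, exists_ne_zero_one (F := Finset.univ) h⟩
  by_cases h1 : 4 ≤ Fintype.card F
  · obtain ⟨t, h2, h3⟩ := exists_pow_ne_one (K := F) (s := Finset.univ) two_pos h1
    exact (c.sm_torus sp_lin (hG (by omega)) ex2 (l := t) (l' := 1) trivial h2 trivial one_ne_zero
      (by rwa [div_one])).lifts
  have hev := sp_even_finrank hP
  by_cases h2 : 8 ≤ finrank F V
  · refine Big.lifts ⟨c, hP, ex2, exists_hyp3 hP sp_iso (by omega), fun k => Or.inr ?_, fun k => ?_,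
      fun _ => Or.inl rfl⟩
    · have := k.finrank_W
      exact (k.nds hP).np' (by omega)
    · obtain ⟨y, hy, y', hy', k'⟩ := exists_four hP sp_iso (by omega) k
      exact c.c2_four k k' hy hy' (Or.inl ⟨1, trivial, one_ne_zero⟩)
  have h3 : Fintype.card F = 3 := by omega
  haveI : CharP F 3 := charP_of_card_eq_prime (p := 3) h3
  have h5 : (3 : F) = 0 := CharP.cast_eq_zero F 3
  have h6 : (1 : F) ≠ -1 := fun e => one_ne_zero (α := F) (by linear_combination h5 - e)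
  by_cases h7 : 5 ≤ finrank F V
  · exact Big.lifts ⟨c, hP, ex2, exists_hyp3 hP sp_iso h7,
      fun _ => Or.inl ⟨⟨1, trivial, one_ne_zero⟩, hG h3.ge⟩,
      fun k => c.c2_lam k trivial one_ne_zero trivial (neg_ne_zero.2 one_ne_zero) h6,
      fun _ => Or.inl rfl⟩
  have c1 : ∀ {e f}, P.Hyp e f → P.U e ≤ Cz θ (UW P e ⊥) := fun h => by
    obtain ⟨v, v', k⟩ := ex2 h
    exact c.c1_of k ⟨⟨1, trivial, one_ne_zero⟩, hG h3.ge⟩
  have c2 : ∀ {e f v v'} (k : Hyp2 P e f v v'), UW P v k.W ≤ Cz θ (UW P e ⊥) := fun k =>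
    c.c2_swap2 k (p := 3) (fun l _ h0 l' _ => by
      obtain ⟨n, hn⟩ := prime_field_of_card Nat.prime_three h3 (l' / l)
      exact ⟨n, by rw [← hn, div_mul_cancel₀ _ h0]⟩) (by decide) h5
      (Submodule.finrank_eq_zero.1 (by have := k.finrank_W; omega))
  refine Sm.lifts ⟨c, c1, fun h => ?_, fun h => ?_⟩
  · obtain ⟨v, v', k⟩ := ex2 h
    refine ⟨_, c.dd_bal (c1 h) h (c.invForm2 (c1 h) k ⟨1, trivial, one_ne_zero⟩ (c2 k)
      (k.W_swap ▸ c2 k.swapR)) ⟨1, trivial, one_ne_zero⟩ (Or.inl rfl) (fun l _ => ⟨-l, ?_⟩)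
      fun s hs => ⟨0, ?_⟩⟩
    · simp; linear_combination l * h5
    · simp at hs ⊢; linear_combination s * h5 - hs
  · obtain ⟨-, g, s⟩ := sc_lam h (l := -1) (l' := 1) trivial (neg_ne_zero.2 one_ne_zero) trivial
      one_ne_zero
    exact ⟨g, _, _, s, by simpa using h6.symm⟩

theorem sp_mult (h4 : 4 ≤ finrank F V) (h : 3 ≤ Fintype.card F ∨ 8 ≤ finrank F V) :
    HasCyclicSchurMultiplier (P.EG ⧸ center P.EG) (Nat.gcd 2 (Fintype.card F - 1)) := by
  haveI := Module.finite_of_finite F (M := V)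
  obtain ⟨e, -, h0, he⟩ := sp_iso (P := P) ⊤ (by simp; omega)
  obtain ⟨f, hf⟩ := hP.exists_hyp he h0
  obtain ⟨m, ⟨Φ⟩⟩ := exists_frame_lam hP he h0 (l := 1) trivial one_ne_zero
  obtain ⟨h1, h2⟩ := Φ.closed hP (sp_lifts hP h4 h) fun S _ σ => sp_ker Φ σ
  have h3 : ∀ μ : Fˣ, μ ∈ rootsOfUnity 2 F ↔ (μ : F) * RingHom.id F μ = 1 := fun μ => by
    rw [mem_rootsOfUnity', sq]; rfl
  exact mult_quot_center h1 h2 ((centerEquiv hP sp_rich hf _ (fun μ => (h3 μ).1) fun μ hμ => by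
    simpa [sp_EG_eq_top hP] using (h3 μ).2 hμ).symm.trans (rootsEquiv F 2))

end Cfsg.Agent.Cl
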