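import Cfsg.Agent.Cl.Sp
import Cfsg.Agent.RGD.PLift

set_option autoImplicit false

/-! The spin cover; lifting for orthogonal groups; multipliers from the torus. -/

namespace Cfsg.Agent.Cl

open Subgroup Module Cfsg.Agent.RGD Cfsg.Agent.Cover Cfsg.Agent.Polar Cfsg.Agent.Polar.PQ
open scoped commutatorElement

universe u

theorem exists_stem {Γ G : Type u} [Group Γ] [Group G] [Finite G] {ρ : Γ →* G}
    (h1 : Function.Surjective ρ) (h2 : ρ.ker ≤ center Γ) (h3 : commutator G = ⊤) {z : Γ}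
    (hz : z ∈ commutator Γ) (hz' : ρ z = 1) (h0 : z ≠ 1) :
    ∃ (S : Type u) (_ : Group S) (_ : Finite S) (σ : S →* G), IsStemExtension σ ∧ σ.ker ≠ ⊥ := by
  have h4 : ∀ g, ∃ s ∈ commutator Γ, ρ s = g := fun g => by
    have : g ∈ (commutator Γ).map ρ := by
      rw [_root_.commutator_def, map_commutator, ← MonoidHom.range_eq_map, MonoidHom.range_eq_top.2 h1]
      exact h3.ge trivial
    exact this
  refine ⟨commutator Γ, inferInstance, finite_commutator_of_central h2, ρ.comp (commutator Γ).subtype,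
    ⟨fun g => by obtain ⟨s, hs, e⟩ := h4 g; exact ⟨⟨s, hs⟩, e⟩,
      fun x hx => mem_center_iff.2 fun g => Subtype.ext (mem_center_iff.1 (h2 hx) g), fun x _ => ?_⟩,
    fun e => h0 (congrArg Subtype.val (mem_bot.1 (e.le (show (⟨z, hz⟩ : commutator Γ) ∈ _ from hz'))))⟩
  have := commutator_le_of_map_eq_top h2 _ (fun e => h4 (ρ e)) x.2
  rw [← map_subtype_commutator] at this
  obtain ⟨y, hy, e⟩ := this
  rwa [← Subtype.ext e]

section general

variable {F : Type*} [Field F] {τ : F →+* F} {π : FP F τ}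
variable {V : Type u} [AddCommGroup V] [Module F V] {P : PQ π V}

/-- scalar isometries -/
def IsSc (g : P.Iso) : Prop := ∃ c : F, ∀ x : V, g • x = c • x

theorem Frame.mult_of {m : ℕ} {sh : Bool} (Φ : Frame P m sh) [Finite P.EG] (hP : P.ND) (hr : P.Rich)
    (hl : Lifts.{u} P) {A : Type*} [CommGroup A] (a : A)
    (H : ∀ (S : Type u) [Group S] (σ : USys P S), ∃ φ : A →* S, (∀ k ∈ US (Φ.X σ) Set.univ,
      IsSc (σ.θ k) → k ∈ φ.range) ∧ (∀ x, IsSc (σ.θ (φ x))) ∧ ∀ x, σ.θ (φ x) = 1 → x = 1 ∨ x = a)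
    (hc : commutator P.EG = ⊤ → Subsingleton A ∨ ∃ (S : Type u) (_ : Group S) (_ : Finite S)
      (ρ : S →* P.EG), IsStemExtension ρ ∧ ρ.ker ≠ ⊥) :
    HasSchurMultiplier (P.EG ⧸ center P.EG) A := by
  have key : ∀ (S : Type u) [Group S] (ρ : S →* P.EG), IsStemExtension ρ → commutator S = ⊤ ∧
      ∃ φ : A →* S, φ.range = (center P.EG).comap ρ ∧ ∀ x, ρ (φ x) = 1 → x = 1 ∨ x = a := by
    intro S _ ρ h
    obtain ⟨σ, h1, h2⟩ := hl _ _ (ce_of h.1 h.2.1)
    obtain ⟨h3, h4⟩ := Φ.eq_top_of hP h.1 h.2.1 h.2.2 h1 h2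
    obtain ⟨φ, k1, k2, k3⟩ := H S σ
    rw [h1] at k1 k2 k3
    refine ⟨h4, φ, le_antisymm ?_ fun x hx => k1 x (h3.ge trivial) (exists_scalar_of_commute hP hr
      (Φ.hyp 0) fun g hg => congrArg Subtype.val (mem_center_iff.1 hx ⟨g, hg⟩).symm),
      fun x hx => k3 x (congrArg Subtype.val hx)⟩
    rintro _ ⟨x, rfl⟩
    obtain ⟨c, hc⟩ := k2 x
    refine mem_center_iff.2 fun g => Subtype.ext (PQ.iso_ext fun y => ?_)
    change g.1 • (P.EG.subtype.comp ρ) (φ x) • y = (P.EG.subtype.comp ρ) (φ x) • g.1 • y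
    rw [hc, hc, act_smul]
  have hp := (key _ (MonoidHom.id _) ⟨Function.surjective_id, by simp, by simp⟩).1
  obtain ⟨S, _, _, ρ, h, h0⟩ : ∃ (S : Type u) (_ : Group S) (_ : Finite S) (ρ : S →* P.EG),
      IsStemExtension ρ ∧ (Subsingleton A ∨ ρ.ker ≠ ⊥) := by
    rcases hc hp with h | ⟨S, _, _, ρ, h, h0⟩
    · exact ⟨_, _, inferInstance, MonoidHom.id _, ⟨Function.surjective_id, by simp, by simp⟩, Or.inl h⟩
    · exact ⟨S, _, inferInstance, ρ, h, Or.inr h0⟩
  have k : ∀ {T : Type u} [Group T] {ρ : T →* P.EG} {φ : A →* T}, φ.range = (center P.EG).comap ρ →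
      (∀ x, ρ (φ x) = 1 → x = 1 ∨ x = a) → ∀ z, ρ z = 1 → z = 1 ∨ z = φ a := fun h1 h2 z hz => by
    obtain ⟨x, rfl⟩ := h1.ge (show z ∈ _ by rw [mem_comap, hz]; exact one_mem _)
    exact (h2 x hz).imp (fun e => by rw [e, map_one]) fun e => by rw [e]
  obtain ⟨h1, φ, h2, h3⟩ := key S ρ h
  have h4 : a ≠ 1 → φ a ≠ 1 := fun h4 h5 => h0.elim (fun _ => h4 (Subsingleton.elim _ _)) fun h6 =>
    h6 (eq_bot_iff.2 fun z hz => (k h2 h3 z hz).elim id fun e => e.trans h5)
  have h5 : Function.Injective φ := (injective_iff_map_eq_one φ).2 fun x hx =>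
    (h3 x (by rw [hx, map_one])).elim id fun e => by_contra fun h5 => h4 (e ▸ h5) (e ▸ hx)
  refine mult_of_cover h1 (fun Γ _ _ σ hσ => ?_) ((QuotientGroup.mk' _).comp ρ)
    ((QuotientGroup.mk'_surjective _).comp h.1) ?_ (((MonoidHom.ofInjective h5).trans
      (MulEquiv.subgroupCongr (by rw [h2, ← MonoidHom.comap_ker, QuotientGroup.ker_mk']))).symm)
  · have h6 : commutator Γ = ⊤ := eq_top_iff.2 fun x _ => by
      have : σ x ∈ (commutator Γ).map σ := by
        rw [_root_.commutator_def, map_commutator, ← MonoidHom.range_eq_map,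
          MonoidHom.range_eq_top.2 hσ.1]
        exact h1.ge trivial
      obtain ⟨y, hy, e⟩ := this
      rw [← mul_inv_cancel_left y x]
      exact mul_mem hy (hσ.2.2 (by simp [MonoidHom.mem_ker, e]))
    obtain ⟨-, ψ, h7, h8⟩ := key Γ (ρ.comp σ) ⟨h.1.comp hσ.1, fun x hx =>
      comap_center_le hσ.1 hσ.2.1 h1 (h.2.1 hx), h6.ge.trans' le_top⟩
    refine eq_bot_iff.2 fun z hz => (k h7 h8 z (by simp [MonoidHom.mem_ker.1 hz])).elim id fun e => ?_
    rcases h0 with h0 | h0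
    · rw [e, Subsingleton.elim a 1, map_one]; exact one_mem _
    refine absurd (eq_bot_iff.2 fun y hy => ?_) h0
    obtain ⟨y, rfl⟩ := hσ.1 y
    rcases k h7 h8 y hy with e1 | e1
    · rw [e1, map_one]; exact one_mem _
    · rw [e1, ← e]; exact hz
  · rw [← MonoidHom.comap_ker, QuotientGroup.ker_mk']
    exact comap_center_le h.1 h.2.1 hp

end general

variable {F : Type u} [Field F] {V : Type u} [AddCommGroup V] [Module F V] {P : PQ (oFP F) V}

open CliffordAlgebra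

variable (P) in
/-- the Clifford cover -/
def Pin : Subgroup (P.EG × (CliffordAlgebra P.toQuad)ˣ) where
  carrier := {g | ∀ x, g.2.1 * ι P.toQuad x = ι P.toQuad (g.1.1 • x) * g.2.1}
  one_mem' x := by simp
  mul_mem' {a b} ha hb x := by
    simp only [Prod.snd_mul, Units.val_mul, Prod.fst_mul, coe_mul, mul_smul]
    rw [mul_assoc, hb, ← mul_assoc, ha, mul_assoc]
  inv_mem' {a} ha x := by
    simp only [Prod.snd_inv, Prod.fst_inv, coe_inv]
    rw [Units.inv_mul_eq_iff_eq_mul, ← mul_assoc, ha, smul_inv_smul, Units.mul_inv_cancel_right]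

theorem ι_swap (x y : V) : ι P.toQuad x * ι P.toQuad y =
    algebraMap _ _ (P.B x y) - ι P.toQuad y * ι P.toQuad x := by
  rw [eq_sub_iff_add_eq, ι_mul_ι_add_swap, ← pol_toQuad]; rfl

theorem pin_surj : Function.Surjective ((MonoidHom.fst _ _).comp (Pin P).subtype) := by
  have : P.EG ≤ ((Pin P).map (MonoidHom.fst _ _)).map P.EG.subtype := EG_le fun e w c o _ => by
    have h1 : ι P.toQuad e * ι P.toQuad e = 0 := by
      rw [ι_sq_scalar, toQuad_apply, o_sing_iff.1 o.sing, map_zero]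
    have h2 : ι P.toQuad w * ι P.toQuad e = -(ι P.toQuad e * ι P.toQuad w) := by
      rw [ι_swap, o.perp, map_zero, zero_sub]
    have h3 : ι P.toQuad w * ι P.toQuad w = algebraMap _ _ c := by
      rw [ι_sq_scalar, toQuad_apply, o_QEq_iff.1 o.val]
    have h4 : ι P.toQuad e * ι P.toQuad w * ι P.toQuad e = 0 := by
      rw [mul_assoc, h2, mul_neg, ← mul_assoc, h1, zero_mul, neg_zero]
    have h5 : ι P.toQuad e * ι P.toQuad w * (ι P.toQuad e * ι P.toQuad w) = 0 := by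
      rw [← mul_assoc, h4, zero_mul]
    refine ⟨⟨_, eich_mem_EG e w c⟩, ⟨(⟨_, eich_mem_EG e w c⟩, ⟨1 - ι P.toQuad e * ι P.toQuad w,
      1 + ι P.toQuad e * ι P.toQuad w, by noncomm_ring [h5], by noncomm_ring [h5]⟩), fun x => ?_, rfl⟩, rfl⟩
    simp only [o.eich_smul, map_add, map_sub, map_smul, oFP_eps, one_mul, sub_mul, mul_sub, add_mul,
      mul_one, smul_mul_assoc, ← mul_assoc, h1, h2, zero_mul, neg_mul]
    rw [mul_assoc _ _ (ι _ x), ι_swap w x, mul_sub, ← mul_assoc, ι_swap e x, mul_assoc _ (ι _ w) (ι _ w),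
      h3, ← Algebra.commutes, ← Algebra.commutes, ← Algebra.smul_def, ← Algebra.smul_def, sub_mul,
      ← Algebra.smul_def, o_swap x w, o_swap x e]
    module
  intro g
  obtain ⟨_, ⟨x, hx, rfl⟩, e⟩ := this g.2
  exact ⟨⟨x, hx⟩, Subtype.ext e⟩

theorem pin_ker : ((MonoidHom.fst _ _).comp (Pin P).subtype).ker ≤ center (Pin P) := by
  rintro ⟨⟨g, c⟩, h⟩ (rfl : g = 1)
  refine mem_center_iff.2 fun x => Subtype.ext (Prod.ext (by simp) (Units.ext ?_))
  change x.1.2.1 * c.1 = c.1 * x.1.2.1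
  induction x.1.2.1 using CliffordAlgebra.induction with
  | algebraMap r => exact Algebra.commutes r _
  | ι x => simpa using (h x).symm
  | mul a b ha hb => rw [mul_assoc, hb, ← mul_assoc, ha, mul_assoc]
  | add a b ha hb => rw [add_mul, mul_add, ha, hb]

theorem pin_refl {u v : V} (hu : P.Q u = 1) (hv : P.Q v = 1) (h : P.reflect u * P.reflect v ∈ P.EG) :
    ∃ g : Pin P, g.1.1.1 = P.reflect u * P.reflect v ∧ g.1.2.1 = ι P.toQuad u * ι P.toQuad v := by
  have k1 : ∀ u, P.Q u = 1 → ι P.toQuad u * ι P.toQuad u = 1 := fun u hu => by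
    rw [ι_sq_scalar, toQuad_apply, hu, map_one]
  have k2 : ∀ u, P.Q u = 1 → ∀ x, ι P.toQuad u * ι P.toQuad x =
      -(ι P.toQuad (P.reflect u • x) * ι P.toQuad u) := fun u hu x => by
    rw [reflect_smul (by simp [hu]), hu, div_one, map_sub, map_smul, sub_mul, smul_mul_assoc, k1 u hu,
      ι_swap u x, o_swap u x, Algebra.algebraMap_eq_smul_one, neg_sub]
  refine ⟨⟨(⟨_, h⟩, ⟨ι P.toQuad u * ι P.toQuad v, ι P.toQuad v * ι P.toQuad u, ?_, ?_⟩), fun x => ?_⟩,
    rfl, rfl⟩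
  · rw [mul_assoc, ← mul_assoc (ι _ v), k1 v hv, one_mul, k1 u hu]
  · rw [mul_assoc, ← mul_assoc (ι _ u), k1 u hu, one_mul, k1 v hv]
  · simp only [mul_smul]
    rw [mul_assoc, k2 v hv, mul_neg, ← mul_assoc, k2 u hu, neg_mul, neg_neg, mul_assoc]

theorem exists_spin [Finite F] [FiniteDimensional F V] (hP : P.ND) (h2 : (2 : F) ≠ 0)
    (h7 : 7 ≤ finrank F V) (hp : commutator P.EG = ⊤) : ∃ (S : Type u) (_ : Group S) (_ : Finite S)
      (ρ : S →* P.EG), IsStemExtension ρ ∧ ρ.ker ≠ ⊥ := by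
  haveI := Module.finite_of_finite F (M := V)
  haveI := invertibleOfNonzero h2
  obtain ⟨e, -, h0, he⟩ := o_iso (P := P) ⊤ (by simp; omega)
  obtain ⟨e', h⟩ := hP.exists_hyp he h0
  obtain ⟨w, w', k⟩ := exists_hyp2 hP o_iso (by omega) h
  obtain ⟨v, v', k⟩ := exists_hyp3 hP o_iso h7 k
  have q : ∀ {e f : V}, P.Hyp e f → P.Q (e + f) = 1 := fun h => by simpa using h.o_Q_combo 1 1
  have b : ∀ {e e' w w' : V}, Hyp2 P e e' w w' → P.B (w + w') (e + e') = 0 := fun h => by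
    simp [h.we, h.we', h.w'e, h.w'e']
  have m : ∀ {u v : V}, P.Q u = 1 → P.Q v = 1 → P.reflect u * P.reflect v ∈ P.EG := fun h1 h2 =>
    reflect_mul_reflect_mem_EG (o_vTrans hP (by omega)) hP h (by simp [h1]) (by simp [h2])
      (by simp [h1, h2])
  obtain ⟨a, a1, a2⟩ := pin_refl (q h) (q k.ew.h2) (m (q h) (q k.ew.h2))
  obtain ⟨c, c1, c2⟩ := pin_refl (q k.ew.h2) (q k.ev.h2) (m (q k.ew.h2) (q k.ev.h2))
  have r1 := reflect_comm (b k.ew)
  have r2 := reflect_comm (b k.ev)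
  have r3 := reflect_comm (b k.wv)
  refine exists_stem pin_surj pin_ker hp (commutator_mem_commutator (mem_top a) (mem_top c)) ?_ ?_
  · rw [map_commutatorElement, commutatorElement_eq_one_iff_mul_comm]
    refine Subtype.ext ?_
    change a.1.1.1 * c.1.1.1 = c.1.1.1 * a.1.1.1
    rw [a1, c1]
    exact ((r1.mul_right r2).mul_left ((Commute.refl _).mul_right r3)).eq
  · rw [Ne, commutatorElement_eq_one_iff_mul_comm]
    intro e1
    have e2 : a.1.2.1 * c.1.2.1 = c.1.2.1 * a.1.2.1 := congrArg (fun g : Pin P => g.1.2.1) e1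
    have s1 := ι_swap (P := P) (w + w') (e + e')
    have s2 := ι_swap (P := P) (v + v') (e + e')
    have s3 := ι_swap (P := P) (v + v') (w + w')
    rw [b k.ew, map_zero, zero_sub] at s1
    rw [b k.ev, map_zero, zero_sub] at s2
    rw [b k.wv, map_zero, zero_sub] at s3
    have e3 : c.1.2.1 * a.1.2.1 = -(a.1.2.1 * c.1.2.1) := by
      rw [a2, c2, mul_assoc, ← mul_assoc (ι _ (v + v')), s2, neg_mul, mul_assoc, s3]
      simp only [mul_neg, neg_neg, ← mul_assoc, s1, neg_mul]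
    rw [e3, eq_neg_iff_add_eq_zero, ← two_smul F, smul_eq_zero, ← Units.val_mul] at e2
    exact e2.elim h2 (Units.ne_zero _)

section lifts

variable [Fintype F] [FiniteDimensional F V] (hP : P.ND)
include hP

theorem o_lifts (h7 : 7 ≤ finrank F V) (h3 : finrank F V = 7 → 4 ≤ Fintype.card F)
    (h2 : finrank F V = 8 → Fintype.card F = 2 → ∀ {e e' w w' v v'} (k : Hyp3 P e e' w w' v v'),
      ∀ x ∈ k.W, P.Sing x → x = 0) : Lifts.{u} P := fun E _ θ c => by
  have np : ∀ {e e' w w' v v'} (k : Hyp3 P e e' w w' v v'), NP P k.W := fun k =>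
    (k.nds hP).np' (by have := k.finrank_W; omega)
  refine Big.lifts ⟨c, hP, exists_hyp2 hP o_iso (by omega), exists_hyp3 hP o_iso h7,
    fun k => Or.inr (np k), fun k => ?_, fun k => Or.inr (Or.inl (np k))⟩
  have d := k.finrank_W
  by_cases h4 : 4 ≤ Fintype.card F
  · obtain ⟨t, h2, h3⟩ := exists_pow_ne_one (K := F) (s := Finset.univ) two_pos h4
    exact c.c2_torus k h2 h3
  by_cases h9 : 9 ≤ finrank F V
  · obtain ⟨y, hy, y', hy', k'⟩ := exists_four hP o_iso h9 k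
    exact c.c2_four k k' hy hy' (Or.inr (((k.nds hP).inf k' hy hy').np' (by
      have := finrank_inf_perp k' hy hy'; omega)))
  have h8 : finrank F V = 8 := by omega
  have := Fintype.one_lt_card (α := F)
  by_cases h5 : Fintype.card F = 2
  · have h6 : ∀ x ∈ k.W, x ≠ 0 → P.Q x = 1 := fun x hx h0 => by
      haveI : CharP F 2 := charP_of_card_eq_prime (p := 2) h5
      have := FiniteField.pow_card (P.Q x)
      rw [h5, sq, mul_eq_left₀ fun e => h0 (h2 h8 h5 k x hx (o_sing_iff.2 e))] at this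
      exact this
    refine c.c2_aniso k fun x hx h0 => ⟨by simp [h6 x hx h0], ?_⟩
    obtain ⟨y, hy, h7⟩ := k.nds hP x hx h0
    haveI : CharP F 2 := charP_of_card_eq_prime (p := 2) h5
    exact ⟨y, hy, by rw [h6 x hx h0, h6 y hy (by rintro rfl; simp at h7), CharTwo.neg_eq],
      B_swap_ne h7⟩
  have h6 : Fintype.card F = 3 := by omega
  haveI : CharP F 3 := charP_of_card_eq_prime (p := 3) h6
  have h10 : (3 : F) = 0 := CharP.cast_eq_zero F 3
  by_cases h11 : ∃ y ∈ k.W, y ≠ 0 ∧ P.Sing y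
  · obtain ⟨y, hy, h0, hs⟩ := h11
    obtain ⟨y', hy', k'⟩ := (k.nds hP).exists_hyp hy h0 hs
    refine c.c2_swap k (prime_field_of_card Nat.prime_three h6) (p := 3) (by decide) h10 rfl k' hy hy'
      fun z hz => ?_
    have := finrank_inf_perp k' hy hy'
    rwa [Submodule.finrank_eq_zero.1 (show finrank F (k.W ⊓ P.perp {y, y'} : Submodule F V) = 0 by omega)] at hz
  have h12 : ∀ x ∈ k.W, x ≠ 0 → P.Q x ≠ 0 := fun x hx h0 e => h11 ⟨x, hx, h0, o_sing_iff.2 e⟩
  have h13 : ∀ x ∈ k.W, x ≠ 0 → P.Q x * P.Q x = 1 := fun x hx h0 => by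
    have := FiniteField.pow_card (P.Q x)
    rw [h6, pow_succ, sq, mul_eq_right₀ (h12 x hx h0)] at this
    exact this
  refine c.c2_aniso k fun x hx h0 => ⟨h12 x hx h0, ?_⟩
  obtain ⟨z, h14, h15⟩ := exists_ne_zero_ker₁ ((P.B.flip x).comp k.W.subtype) (by omega)
  have h16 : P.B z x = 0 := h15
  have h17 : (z : V) ≠ 0 := fun e => h14 (Subtype.ext e)
  have h18 : P.B (z + x) x = 2 * P.Q x := by rw [map_add, LinearMap.add_apply, h16, o_B_self, zero_add]
  have h19 : 2 * P.Q x ≠ 0 := mul_ne_zero (fun e => one_ne_zero (α := F) (by linear_combination h10 - e))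
    (h12 x hx h0)
  have h20 := h12 _ (add_mem z.2 hx) fun e => h19 (by rw [← h18, e]; simp)
  refine ⟨z + x, add_mem z.2 hx, ?_, h18 ▸ h19⟩
  rw [o_Q_add, h16, add_zero] at h20 ⊢
  exact mul_left_cancel₀ h20 (by
    linear_combination h13 _ z.2 h17 + 2 * h13 x hx h0 + (1 + P.Q z * P.Q x) * h10)

end lifts

end Cfsg.Agent.Cl
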